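import Cfsg.Agent.H57.UFour.Gen

/-! The subgroup modulo its centre is `PSU₄(3)`: both act alike on 112 objects. -/

set_option autoImplicit false
set_option maxRecDepth 20000

namespace H57.U43

open H94.U43 (ad9 mu9 cj9 C4 ofRows mm4 scal meq4 isU det4')
open H81.U43
open Cfsg Matrix
open H57.G24J (getW)

/-- The upper triangle. -/
def upIdx : Fin 4 → Fin 4 → Option ℕ
  | 0, 1 => some 0 | 0, 2 => some 1 | 0, 3 => some 2
  | 1, 2 => some 3 | 1, 3 => some 4 | 2, 3 => some 5
  | _, _ => none

/-- The alternating code matrix of a line. -/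
def lineJ (i : Fin 112) : C4 := fun a b =>
  match upIdx a b, upIdx b a with
  | some t, _ => dig (getW 20 lineN i.val) t
  | none, some t => mu9 2 (dig (getW 20 lineN i.val) t)
  | none, none => 0

/-- A unitary matrix of the table. -/
def uniC (k : ℕ) : C4 := unitaryL.getD k (scal 1)

/-- The transpose. -/
def trC (A : C4) : C4 := fun i j => A j i

/-- A multiple. -/
def mulC (l : Fin 9) (A : C4) : C4 := fun i j => mu9 l (A i j)

/-- The multiplier of a line. -/
def lamC (k : ℕ) (i : Fin 112) : Fin 9 :=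
  ⟨getW 4 (lamN.getD k 0) i.val % 9, Nat.mod_lt _ (by norm_num)⟩

/-- The unitary matrices act on the lines as the tabled elements act on the cosets. -/
def actOK : Bool :=
  (List.range 8).all fun k =>
    okM (uniC k) &&
    (k < 4 || meq4 (uniC k) (liftM (k - 4))) &&
    (List.finRange 112).all fun i =>
      lamC k i != 0 &&
      meq4 (mm4 (mm4 (uniC k) (lineJ i)) (trC (uniC k))) (mulC (lamC k i) (lineJ (piF k i)))

theorem act_ok : actOK = true := by decide +kernel

/-- The lines are pairwise different. -/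
def sepOK : Bool :=
  (List.finRange 112).all fun i => (List.finRange 112).all fun j => i == j ||
    (List.finRange 9).all fun l =>
      !((List.range 6).all fun t => mu9 l (dig (getW 20 lineN i.val) t) == dig (getW 20 lineN j.val) t)

theorem sep_ok : sepOK = true := by decide +kernel

theorem not_all_fixed : ∃ i : Fin 112, piF 4 i ≠ i := by decide +kernel

variable {F : Type} [Field F] [Fintype F] (hF : Fintype.card F = 9) (c : Coord F)

/-- The matrix of a line. -/
def lineM (i : Fin 112) : Matrix (Fin 4) (Fin 4) F := c.up (lineJ i)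

/-- `g` acts on the lines as `π`. -/
def RelU (g : SU 4 F 3) (π : Equiv.Perm (Fin 112)) : Prop :=
  ∀ i, ∃ l : F, l ≠ 0 ∧ H50.suMat g * lineM c i * (H50.suMat g)ᵀ = l • lineM c (π i)

omit [Fintype F] in
theorem relU_one : RelU c 1 1 := fun i => ⟨1, one_ne_zero, by simp [H50.suMat_one]⟩

omit [Fintype F] in
theorem relU_mul {a b : SU 4 F 3} {p q : Equiv.Perm (Fin 112)} (ha : RelU c a p) (hb : RelU c b q) :
    RelU c (a * b) (p * q) := by
  intro i
  obtain ⟨l, hl, h1⟩ := hb i
  obtain ⟨m, hm, h2⟩ := ha (q i)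
  refine ⟨l * m, mul_ne_zero hl hm, ?_⟩
  rw [H50.suMat_mul, Matrix.transpose_mul,
    show H50.suMat a * H50.suMat b * lineM c i * ((H50.suMat b)ᵀ * (H50.suMat a)ᵀ) =
      H50.suMat a * (H50.suMat b * lineM c i * (H50.suMat b)ᵀ) * (H50.suMat a)ᵀ by
      simp only [Matrix.mul_assoc],
    h1, Matrix.mul_smul, Matrix.smul_mul, h2, smul_smul]
  rfl

omit [Fintype F] in
theorem line_inj {i j : Fin 112} {l : F} (h : lineM c j = l • lineM c i) : i = j := by
  by_contra hij
  obtain ⟨l', rfl⟩ := c.bij.2 l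
  have hs := sep_ok
  simp only [sepOK, List.all_eq_true, List.mem_finRange, true_implies, Bool.or_eq_true, beq_iff_eq,
    Bool.not_eq_true', ← Bool.not_eq_true] at hs
  refine (hs i j).resolve_left hij l' fun t ht => ?_
  simp only [List.mem_range] at ht
  have key : ∀ a b, mu9 l' (lineJ i a b) = lineJ j a b := fun a b => c.bij.1 (by
    have := congrFun (congrFun h a) b
    simp only [lineM, Coord.up, Matrix.of_apply, Matrix.smul_apply, smul_eq_mul] at this
    rw [c.mul, this])
  interval_cases t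
  exacts [key 0 1, key 0 2, key 0 3, key 1 2, key 1 3, key 2 3]

omit [Fintype F] in
theorem relU_unique {g : SU 4 F 3} {p q : Equiv.Perm (Fin 112)} (hp : RelU c g p) (hq : RelU c g q) :
    p = q := by
  refine Equiv.ext fun i => ?_
  obtain ⟨l, hl, h1⟩ := hp i
  obtain ⟨m, hm, h2⟩ := hq i
  exact line_inj c (l := m⁻¹ * l) (by rw [← smul_smul, ← h1, h2, inv_smul_smul₀ hm])

include hF in
theorem relU_tab {k : ℕ} (hk : k < 8) :
    ∃ π : Equiv.Perm (Fin 112), RelU c (c.el hF (uniC k)) π ∧ ∀ i, π i = piF k i := by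
  have h := act_ok
  simp only [actOK, List.all_eq_true, List.mem_range, Bool.and_eq_true, List.mem_finRange,
    true_implies, bne_iff_ne, ne_eq] at h
  obtain ⟨⟨hok, -⟩, he⟩ := h k hk
  obtain ⟨π, -, hπ⟩ := relX_elt hk
  refine ⟨π, fun i => ⟨c.φ (lamC k i), fun h0 => (he i).1 (c.bij.1 (by rw [h0, c.zero])), ?_⟩, hπ⟩
  have hm : mm4 (mm4 (uniC k) (lineJ i)) (trC (uniC k)) = mulC (lamC k i) (lineJ (piF k i)) := by
    have := (he i).2
    simp only [meq4, List.all_eq_true, List.mem_finRange, true_implies, beq_iff_eq] at this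
    exact funext fun a => funext fun b => this a b
  rw [c.el_coe hF hok, hπ i, lineM, lineM, show (c.up (uniC k))ᵀ = c.up (trC (uniC k)) from rfl,
    ← c.up_mm, ← c.up_mm, hm]
  ext a b
  simp [Coord.up, mulC, c.mul]

include hF in
theorem exists_relU (g : SU 4 F 3) : ∃ π, RelU c g π := by
  have h := act_ok
  simp only [actOK, List.all_eq_true, List.mem_range, Bool.and_eq_true, Bool.or_eq_true,
    decide_eq_true_eq] at h
  let H : Subgroup (SU 4 F 3) :=
    subOfFinite {g | ∃ π, RelU c g π} ⟨1, relU_one c⟩ fun ⟨_, ha⟩ ⟨_, hb⟩ => ⟨_, relU_mul c ha hb⟩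
  have hH : H = ⊤ := gen4_top hF c fun k hk => by
    have h4 := ((h (k + 4) (by omega)).1.2).resolve_left (by omega)
    have e : uniC (k + 4) = liftM k := by
      simp only [meq4, List.all_eq_true, List.mem_finRange, true_implies, beq_iff_eq,
        Nat.add_sub_cancel] at h4
      exact funext fun a => funext fun b => h4 a b
    obtain ⟨π, hπ, -⟩ := relU_tab hF c (show k + 4 < 8 by omega)
    exact ⟨π, e ▸ hπ⟩
  have : g ∈ H := by rw [hH]; trivial
  exact this

/-- The action of the unitary group on the lines. -/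
noncomputable def actU : SU 4 F 3 →* Equiv.Perm (Fin 112) :=
  MonoidHom.mk' (fun g => (exists_relU hF c g).choose) fun a b =>
    relU_unique c (exists_relU hF c (a * b)).choose_spec
      (relU_mul c (exists_relU hF c a).choose_spec (exists_relU hF c b).choose_spec)

theorem actU_eq {g : SU 4 F 3} {π : Equiv.Perm (Fin 112)} (h : RelU c g π) : actU hF c g = π :=
  relU_unique c (exists_relU hF c g).choose_spec h

/-- The action of the subgroup on the cosets. -/
noncomputable def actX : kon →* Equiv.Perm (Fin 112) :=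
  MonoidHom.mk' (fun g => g.2.choose) fun a b =>
    relX_unique (a * b).2.choose_spec (relX_mul a.2.choose_spec b.2.choose_spec)

theorem actX_eq {g : kon} {π : Equiv.Perm (Fin 112)} (h : RelX g.1 π) : actX g = π :=
  relX_unique g.2.choose_spec h

set_option maxHeartbeats 800000 in
include hF in
theorem range_eq : (actX).range = (actU hF c).range := by
  refine le_antisymm ?_ ?_
  · let H : Subgroup G6 := ((actU hF c).range.comap actX).map kon.subtype
    have hk : ∀ k < 4, gen k ∈ H := by
      intro k hk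
      obtain ⟨π, hπ, hπe⟩ := relX_elt (show k < 8 by omega)
      obtain ⟨π', hπ', hπe'⟩ := relU_tab hF c (show k < 8 by omega)
      have : gen k = elt k := by simp [elt, eltW, hk, val]
      have hπ2 : RelX (gen k) π := by rw [this]; exact hπ
      have hpp : π' = π := Equiv.ext fun i => (hπe' i).trans (hπe i).symm
      have hin : actX (⟨gen k, gen_mem_kon k⟩ : kon) ∈ (actU hF c).range := by
        refine MonoidHom.mem_range.2 ⟨c.el hF (uniC k), ?_⟩
        rw [actU_eq hF c hπ', actX_eq (g := ⟨gen k, gen_mem_kon k⟩) hπ2, hpp]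
      exact Subgroup.mem_map.2 ⟨⟨gen k, gen_mem_kon k⟩, Subgroup.mem_comap.2 hin, rfl⟩
    have hle : kon ≤ H := by
      conv_lhs => rw [kon_eq]
      exact sup_le (evn_le (hk 0 (by norm_num)) (hk 1 (by norm_num)) (hk 2 (by norm_num)))
        (Subgroup.zpowers_le.2 (hk 3 (by norm_num)))
    intro p hp
    obtain ⟨x, rfl⟩ := MonoidHom.mem_range.1 hp
    obtain ⟨x', hx', he⟩ := Subgroup.mem_map.1 (hle x.2)
    have hxx : x' = x := Subtype.ext he
    rw [hxx] at hx'
    exact Subgroup.mem_comap.1 hx'
  · have h := act_ok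
    simp only [actOK, List.all_eq_true, List.mem_range, Bool.and_eq_true, Bool.or_eq_true,
      decide_eq_true_eq] at h
    rintro _ ⟨g, rfl⟩
    have : (actX.range.comap (actU hF c)) = ⊤ := gen4_top hF c fun k hk => by
      have h4 := ((h (k + 4) (by omega)).1.2).resolve_left (by omega)
      have e : uniC (k + 4) = liftM k := by
        simp only [meq4, List.all_eq_true, List.mem_finRange, true_implies, beq_iff_eq,
          Nat.add_sub_cancel] at h4
        exact funext fun a => funext fun b => h4 a b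
      obtain ⟨π, hπ, hπe⟩ := relX_elt (show k + 4 < 8 by omega)
      obtain ⟨π', hπ', hπe'⟩ := relU_tab hF c (show k + 4 < 8 by omega)
      have hpp : π = π' := Equiv.ext fun i => (hπe i).trans (hπe' i).symm
      refine Subgroup.mem_comap.2 (MonoidHom.mem_range.2 ⟨⟨elt (k + 4), elt_mem_kon _⟩, ?_⟩)
      rw [← e, actU_eq hF c hπ', actX_eq (g := ⟨elt (k + 4), elt_mem_kon _⟩) hπ, hpp]
    have hg : g ∈ actX.range.comap (actU hF c) := by rw [this]; exact Subgroup.mem_top g
    exact Subgroup.mem_comap.1 hg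

include hF c in
theorem kon_facts : Nat.card (Subgroup.center kon) = 3 ∧
    Nonempty (↥kon ⧸ Subgroup.center kon ≃* PSU 4 F 3) := by
  have hF2 : Fintype.card F = 3 ^ 2 := Coord.card_sq hF
  haveI hsimp : IsSimpleGroup (PSU 4 F 3) :=
    H50.PSU_isSimple hF2 (by norm_num) (by norm_num)
  have hz : Subgroup.center (SU 4 F 3) ≤ (actU hF c).ker := by
    intro g hg
    obtain ⟨l, hl⟩ := (H50.mem_center_iff_scalar hF2 (by norm_num)).1 hg
    refine actU_eq hF c (π := 1) fun i => ⟨l * l, ?_, ?_⟩
    · intro h0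
      have hd : (H50.suMat g).det = 1 := g.1.2
      rw [hl, mul_self_eq_zero.1 h0, zero_smul, Matrix.det_zero] at hd
      exact zero_ne_one hd
    · rw [hl]; simp [smul_smul]
  let φ : PSU 4 F 3 →* Equiv.Perm (Fin 112) := QuotientGroup.lift _ (actU hF c) hz
  have hne : φ.ker ≠ ⊤ := by
    intro htop
    obtain ⟨i, hi⟩ := not_all_fixed
    obtain ⟨π, hπ, hπe⟩ := relU_tab hF c (show 4 < 8 by norm_num)
    have hm : (QuotientGroup.mk (c.el hF (uniC 4)) : PSU 4 F 3) ∈ φ.ker := by rw [htop]; trivial
    have h1 : actU hF c (c.el hF (uniC 4)) = 1 := MonoidHom.mem_ker.1 hm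
    rw [actU_eq hF c hπ] at h1
    apply hi
    rw [← hπe i, h1]; rfl
  have hinj : Function.Injective φ := (MonoidHom.ker_eq_bot_iff φ).1
    (((MonoidHom.normal_ker φ).eq_bot_or_eq_top).resolve_right hne)
  have hr : actX.range = φ.range := by
    rw [range_eq hF c]
    ext p
    constructor
    · rintro ⟨g, rfl⟩; exact ⟨QuotientGroup.mk g, rfl⟩
    · rintro ⟨q, rfl⟩
      obtain ⟨g, rfl⟩ := QuotientGroup.mk_surjective q
      exact ⟨g, rfl⟩
  let e : ↥kon ⧸ actX.ker ≃* PSU 4 F 3 :=
    (QuotientGroup.quotientKerEquivRange actX).trans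
      ((MulEquiv.subgroupCongr hr).trans (MonoidHom.ofInjective hinj).symm)
  have hcard : Nat.card actX.ker = 3 := by
    have h1 := Subgroup.card_eq_card_quotient_mul_card_subgroup actX.ker
    rw [card_kon, Nat.card_congr e.toEquiv, card_PSU43 hF] at h1
    omega
  -- the scalars
  have hs : (∑ _i : Fin 6, (1 : ZMod 3)) = 0 := by decide +kernel
  let z : G6 := mkN 1 (fun _ => 1) hs
  have hzc : ∀ g : G6, g * z = z * g := by
    intro g
    refine mat_inj ?_
    have : mon (1 : Equiv.Perm (Fin 6)) (fun _ => (1 : ZMod 3)) = wp 1 • 1 := by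
      ext i j
      simp [mon_apply, Matrix.one_apply, eq_comm]
    rw [mat_mul, mat_mul, mat_mkN, this]
    simp
  have hzev : z ∈ evn := ⟨1, one_mem _, _, rfl⟩
  let zk : kon := ⟨z, evn_le_kon hzev⟩
  have hzker : zk ∈ actX.ker := actX_eq (π := 1) fun i => by
    show (y i)⁻¹ * z * y i ∈ evn
    rw [mul_assoc, ← hzc, inv_mul_cancel_left]; exact hzev
  have hzne : zk ≠ 1 := by
    intro h
    have h1 : mon (1 : Equiv.Perm (Fin 6)) (fun _ => (1 : ZMod 3)) = mon 1 0 := by
      rw [mon_one, ← mat_one, ← mat_mkN 1 (fun _ => (1 : ZMod 3)) hs]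
      exact congrArg (fun g : kon => mat g.1) h
    exact one_ne_zero (congrFun (mon_inj h1).2 0)
  have hkc : actX.ker ≤ Subgroup.center kon := by
    haveI : Fact (Nat.Prime 3) := ⟨Nat.prime_three⟩
    intro k hk
    have : Subgroup.zpowers (⟨zk, hzker⟩ : actX.ker) = ⊤ :=
      zpowers_eq_top_of_prime_card hcard (fun h => hzne (congrArg Subtype.val h))
    have hmem : (⟨k, hk⟩ : actX.ker) ∈ Subgroup.zpowers (⟨zk, hzker⟩ : actX.ker) := by
      rw [this]; trivial
    obtain ⟨n, hn⟩ := hmem
    have hkz : k = zk ^ n := congrArg Subtype.val hn.symm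
    rw [hkz]
    exact Subgroup.zpow_mem _ (Subgroup.mem_center_iff.2 fun g => Subtype.ext (hzc g.1)) n
  have hck : Subgroup.center kon ≤ actX.ker := by
    intro x hx
    have h1 : e (QuotientGroup.mk x) ∈ Subgroup.center (PSU 4 F 3) := by
      refine Subgroup.mem_center_iff.2 fun q => ?_
      obtain ⟨w, rfl⟩ := e.surjective q
      obtain ⟨v, rfl⟩ := QuotientGroup.mk_surjective w
      rw [← map_mul, ← map_mul, ← QuotientGroup.mk_mul, ← QuotientGroup.mk_mul,
        Subgroup.mem_center_iff.1 hx v]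
    rcases (inferInstance : (Subgroup.center (PSU 4 F 3)).Normal).eq_bot_or_eq_top with hb | ht
    · rw [hb, Subgroup.mem_bot] at h1
      exact (QuotientGroup.eq_one_iff x).1 (e.injective (h1.trans (map_one e).symm))
    · exfalso
      have hcomm : commutator (PSU 4 F 3) = ⊥ :=
        (commutator_eq_bot_iff_center_eq_top _).2 ht
      rw [perfect_psu43 hF] at hcomm
      haveI := hsimp.toNontrivial
      exact top_ne_bot hcomm
  have heq : Subgroup.center kon = actX.ker := le_antisymm hck hkc
  exact ⟨heq ▸ hcard, ⟨(QuotientGroup.quotientMulEquivOfEq heq).trans e⟩⟩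

end H57.U43
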