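import Cfsg.Agent.H57.UFour.Pin

/-! Elements commuting with the distinguished torus element, and what they generate with the monomial group. -/

set_option autoImplicit false
set_option maxRecDepth 20000

namespace H57.U43

open H35.G24 Cfsg Matrix
open H57.G24J (decM mulP oneP prodP getW dig row decM_mul decM_one decM_prod)

/-- Exponents of the distinguished torus element. -/
def tE : Ev := ![0, 0, 0, 1, 1, 1]

theorem sum_tE : ∑ i, tE i = 0 := by decide +kernel

/-- The distinguished torus element. -/
noncomputable def tdist : G6 := mkN 1 tE sum_tE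

/-- A vector of three coordinates. -/
def vec (n : Fin 64) (i : Fin 3) : K4 := K4.ofN (n.val / 4 ^ i.val % 4)

theorem vec_surj : ∀ v : Fin 3 → K4, ∃ n, ∀ i, vec n i = v i := by decide +kernel

/-- The product of two vectors. -/
def dot3 (u v : Fin 3 → K4) : K4 := u 0 ^ 2 * v 0 + u 1 ^ 2 * v 1 + u 2 ^ 2 * v 2

/-- The permutations of three points. -/
def per3 : Fin 6 → Equiv.Perm (Fin 3) :=
  ![1, Equiv.swap 0 1, Equiv.swap 0 2, Equiv.swap 1 2, Equiv.swap 0 1 * Equiv.swap 1 2,
    Equiv.swap 1 2 * Equiv.swap 0 1]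

/-- The three columns, moved back by a block. -/
def colsOK (i : Fin 4) (k : Fin 6) (a b c : Fin 64) : Bool :=
  (List.finRange 3).all fun l => (List.finRange 3).all fun j =>
    decide (dot3 (fun m => qM i m l) (![vec a, vec b, vec c] j) = 0) == (per3 k j != l)

/-- Every orthonormal triple of vectors is a monomial image of one of the four frames. -/
def framesOK : Bool :=
  let L := List.finRange 64
  L.all fun a => !decide (dot3 (vec a) (vec a) = 1) ||
    L.all fun b => !(decide (dot3 (vec b) (vec b) = 1) && decide (dot3 (vec a) (vec b) = 0)) ||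
      L.all fun c =>
        !(decide (dot3 (vec c) (vec c) = 1) && decide (dot3 (vec a) (vec c) = 0) &&
          decide (dot3 (vec b) (vec c) = 0)) ||
        (List.finRange 4).any fun i => (List.finRange 6).any fun k => colsOK i k a b c

theorem frames_ok : framesOK = true := by decide +kernel

/-- The adjoint of a block. -/
def adj3 (A : Matrix (Fin 3) (Fin 3) K4) : Matrix (Fin 3) (Fin 3) K4 :=
  Matrix.of fun l m => A m l ^ 2

theorem adj3_mul (A B : Matrix (Fin 3) (Fin 3) K4) (l j : Fin 3) :
    (adj3 A * B) l j = dot3 (fun m => A m l) (fun m => B m j) := by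
  rw [Matrix.mul_apply, Fin.sum_univ_three]; rfl

theorem unitary_three {A : Matrix (Fin 3) (Fin 3) K4} (hA : adj3 A * A = 1) :
    ∃ (i : Fin 4) (p : Equiv.Perm (Fin 3)) (f : Fin 3 → ZMod 3),
      ∀ l j, (adj3 (qM i) * A) l j = if p j = l then wp (f j) else 0 := by
  have hd : ∀ l j, dot3 (fun m => A m l) (fun m => A m j) = if l = j then 1 else 0 := fun l j => by
    rw [← adj3_mul, hA, Matrix.one_apply]
  obtain ⟨a, ha⟩ := vec_surj fun m => A m 0
  obtain ⟨b, hb⟩ := vec_surj fun m => A m 1
  obtain ⟨c, hc⟩ := vec_surj fun m => A m 2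
  have ea : vec a = fun m => A m 0 := funext ha
  have eb : vec b = fun m => A m 1 := funext hb
  have ec : vec c = fun m => A m 2 := funext hc
  have h := frames_ok
  simp only [framesOK, List.all_eq_true, List.mem_finRange, true_implies, Bool.or_eq_true,
    Bool.not_eq_true', Bool.and_eq_false_iff, decide_eq_false_iff_not, List.any_eq_true,
    true_and] at h
  obtain ⟨i, k, hik⟩ : ∃ i k, colsOK i k a b c = true := by
    rcases h a with h1 | h1
    · exact absurd (by rw [ea, hd]; rfl) h1
    rcases h1 b with h2 | h2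
    · rcases h2 with h2 | h2
      · exact absurd (by rw [eb, hd]; rfl) h2
      · exact absurd (by rw [ea, eb, hd]; rfl) h2
    rcases h2 c with h3 | h3
    · rcases h3 with (h3 | h3) | h3
      · exact absurd (by rw [ec, hd]; rfl) h3
      · exact absurd (by rw [ea, ec, hd]; rfl) h3
      · exact absurd (by rw [eb, ec, hd]; rfl) h3
    exact h3
  simp only [colsOK, List.all_eq_true, List.mem_finRange, true_implies, beq_iff_eq] at hik
  have hz : ∀ l j, (adj3 (qM i) * A) l j = 0 ↔ per3 k j ≠ l := by
    intro l j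
    have hcol : ![vec a, vec b, vec c] j = fun m => A m j := by
      fin_cases j
      exacts [ea, eb, ec]
    have := hik l j
    rw [hcol, ← adj3_mul, decide_eq_bne] at this
    exact this
  choose f hf using fun j => wp_surj _ (fun h0 => (hz (per3 k j) j).1 h0 rfl)
  refine ⟨i, per3 k, f, fun l j => ?_⟩
  split
  · next hl => rw [← hl, hf]
  · next hl => exact (hz l j).2 hl
where
  decide_eq_bne {p : Prop} [Decidable p] {x z : Fin 3} : (decide p = (x != z)) = (p ↔ x ≠ z) := by
    by_cases hp : p <;> by_cases hx : x = z <;> simp [hp, hx]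

theorem adj_blkM (A B : Matrix (Fin 3) (Fin 3) K4) :
    H51.adj hK4 (blkM A B) = blkM (adj3 A) (adj3 B) := by
  ext i j
  obtain ⟨x, rfl⟩ := e33.surjective i
  obtain ⟨z, rfl⟩ := e33.surjective j
  rw [H51.adj_apply]
  rcases x with x | x <;> rcases z with z | z <;> simp [blkM, adj3]

theorem blkM_mul (A B C D : Matrix (Fin 3) (Fin 3) K4) :
    blkM A B * blkM C D = blkM (A * C) (B * D) := by
  simp only [blkM, Matrix.reindex_apply]
  rw [Matrix.submatrix_mul_equiv, Matrix.fromBlocks_multiply]
  simp

theorem adj_mat (g : G6) : H51.adj hK4 (mat g) * mat g = 1 := by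
  refine Matrix.ext_iff_mulVec.2 fun v => ?_
  rw [Matrix.one_mulVec]
  refine sub_eq_zero.1 (H50.eq_zero_of_h_right hK4 fun u => ?_)
  rw [H50.h_sub_right hK4, ← Matrix.mulVec_mulVec, ← H50.h_mulVec_left hK4,
    show hermForm 6 K4 2 (mat g *ᵥ u) (mat g *ᵥ v) = hermForm 6 K4 2 u v from H50.SU_isIso g u v,
    sub_self]

theorem mat_inv_adj (g : G6) : mat g⁻¹ = H51.adj hK4 (mat g) :=
  (left_inv_eq_right_inv (adj_mat g) (by rw [← mat_mul, mul_inv_cancel, mat_one])).symm

theorem tE_table : ∀ i j : Fin 3, tE (e33 (Sum.inl i)) = 0 ∧ tE (e33 (Sum.inr j)) = 1 := by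
  decide +kernel

/-- A monomial correction of an element commuting with the distinguished torus element. -/
theorem exists_block_rep {g : G6} (h : mat g * mon 1 tE = mon 1 tE * mat g) :
    ∃ i j : Fin 4, ∃ n ∈ nor, g = gQ i j * n := by
  have hoff : ∀ a b, tE a ≠ tE b → mat g a b = 0 := by
    intro a b hab
    have := congrFun (congrFun h a) b
    rw [Matrix.mul_apply, Matrix.mul_apply, Finset.sum_eq_single b, Finset.sum_eq_single a] at this
    · simp only [mon_apply, Equiv.Perm.coe_one, id_eq, if_pos] at this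
      by_contra h0
      rw [mul_comm] at this
      exact hab (wp_inj _ _ (mul_right_cancel₀ h0 this).symm)
    all_goals first | (intro c _ hc; simp [mon_apply, hc, Ne.symm hc]) | simp
  obtain ⟨A, hAe⟩ : ∃ A : Matrix (Fin 3) (Fin 3) K4, ∀ i j, A i j = mat g (e33 (.inl i)) (e33 (.inl j)) :=
    ⟨Matrix.of fun i j => mat g (e33 (.inl i)) (e33 (.inl j)), fun _ _ => rfl⟩
  obtain ⟨B, hBe⟩ : ∃ B : Matrix (Fin 3) (Fin 3) K4, ∀ i j, B i j = mat g (e33 (.inr i)) (e33 (.inr j)) :=
    ⟨Matrix.of fun i j => mat g (e33 (.inr i)) (e33 (.inr j)), fun _ _ => rfl⟩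
  have hg : mat g = blkM A B := by
    ext i j
    obtain ⟨x, rfl⟩ := e33.surjective i
    obtain ⟨z, rfl⟩ := e33.surjective j
    rcases x with x | x <;> rcases z with z | z <;>
      simp only [blkM, Matrix.reindex_apply, Matrix.submatrix_apply, Equiv.symm_apply_apply,
        Matrix.fromBlocks_apply₁₁, Matrix.fromBlocks_apply₁₂, Matrix.fromBlocks_apply₂₁,
        Matrix.fromBlocks_apply₂₂, hAe, hBe, Matrix.zero_apply]
    · exact hoff _ _ (by rw [(tE_table x z).1, (tE_table x z).2]; decide)
    · exact hoff _ _ (by rw [(tE_table z x).1, (tE_table z x).2]; decide)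
  have hu := adj_mat g
  rw [hg, adj_blkM, blkM_mul] at hu
  have hA : adj3 A * A = 1 := by
    ext i j
    have := congrFun (congrFun hu (e33 (.inl i))) (e33 (.inl j))
    simpa [blkM, Matrix.one_apply] using this
  have hB : adj3 B * B = 1 := by
    ext i j
    have := congrFun (congrFun hu (e33 (.inr i))) (e33 (.inr j))
    simpa [blkM, Matrix.one_apply] using this
  obtain ⟨i, p, f, hf⟩ := unitary_three hA
  obtain ⟨j, q, k, hk⟩ := unitary_three hB
  refine ⟨i, j, (gQ i j)⁻¹ * g, mem_nor.2 ⟨e33.permCongr (Equiv.sumCongr p q),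
    fun x => Sum.elim f k (e33.symm x), ?_⟩, by group⟩
  rw [mat_mul, mat_inv_adj, mat_gQ, eqC_sound (blkC_eq i j).2, hg, adj_blkM, blkM_mul]
  ext a b
  obtain ⟨x, rfl⟩ := e33.surjective a
  obtain ⟨z, rfl⟩ := e33.surjective b
  rcases x with x | x <;> rcases z with z | z <;>
    simp [blkM, mon_apply, Equiv.permCongr_apply, hf, hk]

/-! ### Outcomes -/

/-- The diagonal exponents moving the base subgroup to the `k`-th one. -/
def dEk (k : Fin 3) : Ev := fun j => (k.val : ZMod 3) * dE j

/-- The `k`-th generator. -/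
noncomputable def gk (k : Fin 3) : G6 := dconj (dEk k) gG

/-- The code of a diagonal matrix. -/
def dC (k : Fin 3) : ℕ := [oneP, deltaN, deltaInvN].getD k.val 0

/-- The code of the inverse diagonal matrix. -/
def dCi (k : Fin 3) : ℕ := [oneP, deltaInvN, deltaN].getD k.val 0

theorem dC_eq : ∀ k : Fin 3, eqC (dC k) (mon 1 (dEk k)) = true ∧
    eqC (dCi k) (mon 1 (-dEk k)) = true := by decide +kernel

/-- The code of a generator of a subgroup. -/
def gkC (k : Fin 3) : ℕ := mulP (dC k) (mulP (genC 3) (dCi k))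

/-- The code of its inverse. -/
def gkI (k : Fin 3) : ℕ := mulP (dC k) (mulP (starC (genC 3)) (dCi k))

theorem gen_inv_code : mulP (starC (genC 3)) (genC 3) = oneP ∧ mulP tauN tauN = oneP := by
  decide +kernel

theorem mat_gk (k : Fin 3) : mat (gk k) = decM (gkC k) := by
  rw [gk, mat_dconj, gkC, decM_mul, decM_mul, eqC_sound (dC_eq k).1, eqC_sound (dC_eq k).2,
    show mat gG = decM (genC 3) from mat_gen 3, Matrix.mul_assoc]

theorem mat_gk_inv (k : Fin 3) : mat (gk k)⁻¹ = decM (gkI k) := by
  rw [gk, show (dconj (dEk k) gG)⁻¹ = dconj (dEk k) gG⁻¹ from (map_inv (dAut (dEk k)) gG).symm,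
    mat_dconj, gkI, decM_mul, decM_mul, eqC_sound (dC_eq k).1, eqC_sound (dC_eq k).2, Matrix.mul_assoc]
  congr 2
  refine (left_inv_eq_right_inv (a := mat gG) ?_ (by rw [← mat_mul, mul_inv_cancel, mat_one])).symm
  rw [show mat gG = decM (genC 3) from mat_gen 3, ← decM_mul, gen_inv_code.1, decM_one]

theorem gS_sq : gS * gS = 1 :=
  mat_inj (by rw [mat_mul, mat_gS, ← decM_mul, gen_inv_code.2, decM_one, mat_one])

/-- A letter, the fourth one being given. -/
noncomputable def lett (x : G6) (k : ℕ) : G6 := if k < 3 then gen k else x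

/-- Its code. -/
def lettC (m : ℕ) (k : ℕ) : ℕ := if k < 3 then genC k else m

/-- The code of a candidate. -/
def candC (e : Bool) (i j : Fin 4) : ℕ := if e then mulP (blkC i j) tauN else blkC i j

/-- A candidate. -/
noncomputable def candE (e : Bool) (i j : Fin 4) : G6 := if e then gQ i j * gS else gQ i j

/-- The outcome of a candidate is as tabled. -/
def candOK (e : Bool) (i j : Fin 4) : Bool :=
  (i == 0 && j == 0) || candT.any fun r =>
    r.1 == (if e then 16 else 0) + 4 * i.val + j.val &&
    (let w := prodP (r.2.1.map (lettC (candC e i j)))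
     if h : r.2.2.1 < 3 then monAt (mulP (gkI ⟨r.2.2.1, h⟩) w) r.2.2.2
     else monAt (mulP w tauN) r.2.2.2)

theorem cand_ok : ∀ e i j, candOK e i j = true := by decide +kernel

theorem mat_candE (e : Bool) (i j : Fin 4) : mat (candE e i j) = decM (candC e i j) := by
  cases e <;> simp [candE, candC, mat_gQ, mat_mul, mat_gS, decM_mul]

theorem blk_zero : blkC 0 0 = oneP := by decide +kernel

theorem gQ_zero : gQ 0 0 = 1 := mat_inj (by rw [mat_gQ, blk_zero, decM_one, mat_one])

/-- A subgroup containing the monomial group and a candidate contains a generator or an odd permutation. -/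
theorem cand_outcome {K : Subgroup G6} (hM : evn ≤ K) {e : Bool} {i j : Fin 4}
    (hne : ¬ (i = 0 ∧ j = 0 ∧ e = false)) (hx : candE e i j ∈ K) :
    (∃ k, gk k ∈ K) ∨ gS ∈ K := by
  have h := cand_ok e i j
  simp only [candOK, Bool.or_eq_true, Bool.and_eq_true, beq_iff_eq, Bool.not_eq_true',
    List.any_eq_true] at h
  rcases h with h | ⟨r, -, -, hr⟩
  · cases e with
    | false => exact absurd ⟨h.1, h.2, rfl⟩ hne
    | true =>
      refine Or.inr ?_
      simpa [candE, h.1, h.2, gQ_zero] using hx
  let W : G6 := (r.2.1.map (lett (candE e i j))).prod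
  have hWmem : W ∈ K := by
    refine list_prod_mem fun z hz => ?_
    obtain ⟨k, -, rfl⟩ := List.mem_map.1 hz
    unfold lett
    split
    · next hk =>
      refine hM ?_
      interval_cases k
      exacts [⟨1, one_mem _, _, rfl⟩, ⟨pA, sign_pA, _, rfl⟩, ⟨pB, sign_pB, _, rfl⟩]
    · exact hx
  have hW : mat W = decM (prodP (r.2.1.map (lettC (candC e i j)))) := by
    rw [mat_prod, decM_prod, List.map_map, List.map_map]
    congr 1
    refine List.map_congr_left fun k _ => ?_
    simp only [Function.comp_apply, lett, lettC]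
    split
    · exact mat_gen k
    · exact mat_candE e i j
  split at hr
  · next h3 =>
    left
    refine ⟨⟨r.2.2.1, h3⟩, ?_⟩
    have hm := monAt_sound hr (g := (gk ⟨r.2.2.1, h3⟩)⁻¹ * W)
      (by rw [mat_mul, mat_gk_inv, hW, decM_mul])
    have := K.mul_mem hWmem (K.inv_mem (hM hm))
    rwa [show W * ((gk ⟨r.2.2.1, h3⟩)⁻¹ * W)⁻¹ = gk ⟨r.2.2.1, h3⟩ by group] at this
  · right
    have hm := monAt_sound hr (g := W * gS) (by rw [mat_mul, mat_gS, hW, decM_mul])
    have := K.mul_mem (K.inv_mem hWmem) (hM hm)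
    rwa [inv_mul_cancel_left] at this

/-- The second generator is outside the first subgroup. -/
def outOK : Bool :=
  (List.finRange 112).all fun i =>
    (List.finRange 6).any fun r => (List.finRange 6).any fun c => (List.finRange 6).any fun d =>
      c != d && dig c.val (row (mulP (repI i) (gkC 1)) r.val) != 0 &&
        dig d.val (row (mulP (repI i) (gkC 1)) r.val) != 0

theorem out_ok : outOK = true := by decide +kernel

theorem gk_one_not_mem : gk 1 ∉ kon := by
  intro h
  obtain ⟨i, m, hm, he⟩ := exists_coset h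
  have hn : (y i)⁻¹ * gk 1 ∈ nor := by rw [he, inv_mul_cancel_left]; exact evn_le_nor hm
  obtain ⟨p, e, hpe⟩ := mem_nor.1 hn
  rw [mat_mul, (rep_facts i).2, mat_gk, ← decM_mul] at hpe
  have ho := out_ok
  simp only [outOK, List.all_eq_true, List.mem_finRange, true_implies, List.any_eq_true,
    Bool.and_eq_true, bne_iff_ne, ne_eq] at ho
  obtain ⟨r, -, c, -, d, -, ⟨hcd, hc⟩, hd⟩ := ho i
  have hz : ∀ c : Fin 6, dig c.val (row (mulP (repI i) (gkC 1)) r.val) ≠ 0 → p c = r := by
    intro c hc
    by_contra hne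
    have := congrFun (congrFun hpe r) c
    rw [mon_apply, if_neg hne] at this
    exact ofN_ne ⟨_, H57.G24J.dig_lt c.val (row (mulP (repI i) (gkC 1)) r.val)⟩
      (fun h => hc (congrArg Fin.val h)) this
  exact hcd (p.injective ((hz c hc).trans (hz d hd).symm))

theorem tau_fix_code : monAt (mulP (repI ⟨tauFix.1 % 112, Nat.mod_lt _ (by norm_num)⟩)
    (mulP tauN (mulP (genC 3) tauN))) tauFix.2 = true := by decide +kernel

theorem gS_conj_gG : gS * gG * gS⁻¹ ∈ kon := by
  have hi : gS⁻¹ = gS := inv_eq_of_mul_eq_one_right gS_sq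
  rw [hi]
  have hm := monAt_sound tau_fix_code
    (g := (y ⟨tauFix.1 % 112, Nat.mod_lt _ (by norm_num)⟩)⁻¹ * (gS * gG * gS))
    (by rw [mat_mul, (rep_facts _).2, mat_mul, mat_mul, mat_gS,
      show mat gG = decM (genC 3) from mat_gen 3, decM_mul, decM_mul, decM_mul, Matrix.mul_assoc])
  have := kon.mul_mem (y_mem_kon ⟨tauFix.1 % 112, Nat.mod_lt _ (by norm_num)⟩) (evn_le_kon hm)
  rwa [mul_inv_cancel_left] at this

/-- The generator commutes with the distinguished torus element, and is not monomial. -/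
def gGOK : Bool :=
  (List.finRange 6).all fun a => (List.finRange 6).all fun b =>
    (tE a == tE b || dig b.val (row (genC 3) a.val) == 0)

theorem gG_ok : gGOK = true := by decide +kernel

theorem gG_comm : gG * tdist = tdist * gG := by
  have h := gG_ok
  simp only [gGOK, List.all_eq_true, List.mem_finRange, true_implies,
    Bool.or_eq_true, beq_iff_eq] at h
  refine mat_inj ?_
  rw [mat_mul, mat_mul, tdist, mat_mkN, show mat gG = decM (genC 3) from mat_gen 3]
  ext a b
  rw [Matrix.mul_apply, Matrix.mul_apply, Finset.sum_eq_single b, Finset.sum_eq_single a]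
  · simp only [mon_apply, Equiv.Perm.coe_one, id_eq, if_pos]
    rcases h a b with h1 | h1
    · rw [h1, mul_comm]
    · rw [show decM (genC 3) a b = 0 by show K4.ofN _ = 0; rw [h1]; rfl, zero_mul, mul_zero]
  all_goals first | (intro c _ hc; simp [mon_apply, hc, Ne.symm hc]) | simp

theorem gG_row : ∃ r c d : Fin 6, c ≠ d ∧ dig c.val (row (genC 3) r.val) ≠ 0 ∧
    dig d.val (row (genC 3) r.val) ≠ 0 := by decide +kernel

theorem gG_not_nor : gG ∉ nor := by
  intro hn
  obtain ⟨r, c, d, hcd, hc, hd⟩ := gG_row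
  obtain ⟨p, e, hpe⟩ := mem_nor.1 hn
  rw [show mat gG = decM (genC 3) from mat_gen 3] at hpe
  have hz : ∀ c : Fin 6, dig c.val (row (genC 3) r.val) ≠ 0 → p c = r := by
    intro c hc
    by_contra hne
    have := congrFun (congrFun hpe r) c
    rw [mon_apply, if_neg hne] at this
    exact ofN_ne ⟨_, H57.G24J.dig_lt c.val (row (genC 3) r.val)⟩
      (fun h => hc (congrArg Fin.val h)) this
  exact hcd (p.injective ((hz c hc).trans (hz d hd).symm))

end H57.U43
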