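import Cfsg.Agent.H57.UFour.Mono
import Cfsg.Agent.H57.UFour.Data

/-! One subgroup `3.U₄(3)` of `SU₆(2)`, as the stabiliser of a list of 112 cosets. -/

set_option autoImplicit false
set_option maxRecDepth 20000

namespace H57.U43

open H35.G24 Cfsg
open H57.G24J (decM mulP oneP prodP getW dig row decM_mul decM_one decM_prod)

/-! ### The first three generators and the blocks -/

/-- A three-cycle. -/
def pA : Equiv.Perm (Fin 6) where
  toFun := ![1, 2, 0, 3, 4, 5]
  invFun := ![2, 0, 1, 3, 4, 5]
  left_inv := by decide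
  right_inv := by decide

/-- A five-cycle. -/
def pB : Equiv.Perm (Fin 6) where
  toFun := ![0, 2, 3, 4, 5, 1]
  invFun := ![0, 5, 1, 2, 3, 4]
  left_inv := by decide
  right_inv := by decide

/-- A transposition. -/
def pT : Equiv.Perm (Fin 6) := Equiv.swap 4 5

theorem sign_pA : Equiv.Perm.sign pA = 1 := by decide +kernel
theorem sign_pB : Equiv.Perm.sign pB = 1 := by decide +kernel
theorem sign_pT : Equiv.Perm.sign pT = -1 := by decide +kernel

/-- A torus element. -/
noncomputable def gT : G6 := mkN 1 ![1, 2, 0, 0, 0, 0] (by decide +kernel)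
/-- A three-cycle matrix. -/
noncomputable def gA : G6 := mkN pA 0 (by simp)
/-- A five-cycle matrix. -/
noncomputable def gB : G6 := mkN pB 0 (by simp)
/-- A transposition matrix. -/
noncomputable def gS : G6 := mkN pT 0 (by simp)

/-- Splitting of six coordinates. -/
def e33 : Fin 3 ⊕ Fin 3 ≃ Fin 6 := finSumFinEquiv

/-- A block diagonal matrix. -/
def blkM (A B : Matrix (Fin 3) (Fin 3) K4) : Matrix (Fin 6) (Fin 6) K4 :=
  Matrix.reindex e33 e33 (Matrix.fromBlocks A 0 0 B)

theorem det_blkM (A B : Matrix (Fin 3) (Fin 3) K4) : (blkM A B).det = A.det * B.det := by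
  rw [blkM, Matrix.det_reindex_self, Matrix.det_fromBlocks_zero₂₁]

/-- The four unitary matrices moving the standard orthonormal frame of three coordinates. -/
def qM : Fin 4 → Matrix (Fin 3) (Fin 3) K4 :=
  let w := K4.ofN 2
  let v := K4.ofN 3
  ![1, !![1, 1, 1; 1, w, v; 1, v, w], !![1, w, w; v, w, v; v, v, w], !![1, v, v; w, w, v; w, v, w]]

theorem det_qM : ∀ i, (qM i).det = 1 := by
  intro i; fin_cases i <;> simp only [Matrix.det_fin_three] <;> decide +kernel

/-- The code of a block element. -/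
def blkC (i j : Fin 4) : ℕ := blkL.getD (4 * i.val + j.val) 0

/-- The code of the adjoint. -/
def starC (A : ℕ) : ℕ :=
  (List.range 36).foldr (fun k acc => acc + ([0, 1, 3, 2].getD (dig (k % 6) (row A (k / 6))) 0) *
    2 ^ (12 * (k % 6) + 2 * (k / 6))) 0

/-- The adjoint code is an adjoint and a left inverse. -/
def okU (A : ℕ) : Bool :=
  ((List.finRange 6).all fun i => (List.finRange 6).all fun j =>
    dig j.val (row (starC A) i.val) == [0, 1, 3, 2].getD (dig i.val (row A j.val)) 0) &&
  mulP (starC A) A == oneP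

theorem conj_code : ∀ d : Fin 4, K4.ofN ([0, 1, 3, 2].getD d.val 0) = K4.ofN d.val ^ 2 := by
  decide +kernel

theorem adj_of_okU {A : ℕ} (h : okU A = true) : H51.adj hK4 (decM A) * decM A = 1 := by
  simp only [okU, Bool.and_eq_true, List.all_eq_true, List.mem_finRange, true_implies,
    beq_iff_eq] at h
  have hs : H51.adj hK4 (decM A) = decM (starC A) := by
    ext i j
    rw [H51.adj_apply]
    show K4.ofN _ ^ 2 = K4.ofN _
    rw [h.1 i j]
    exact (conj_code ⟨dig i.val (row A j.val), H57.G24J.dig_lt _ _⟩).symm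
  rw [hs, ← decM_mul, h.2, decM_one]

/-- Entrywise equality of a code with a matrix. -/
def eqC (A : ℕ) (M : Matrix (Fin 6) (Fin 6) K4) : Bool :=
  (List.finRange 6).all fun i => (List.finRange 6).all fun j =>
    decide (K4.ofN (dig j.val (row A i.val)) = M i j)

theorem eqC_sound {A : ℕ} {M : Matrix (Fin 6) (Fin 6) K4} (h : eqC A M = true) : decM A = M := by
  simp only [eqC, List.all_eq_true, List.mem_finRange, true_implies, decide_eq_true_eq] at h
  exact Matrix.ext h

theorem blkC_eq : ∀ i j : Fin 4, okU (blkC i j) = true ∧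
    eqC (blkC i j) (blkM (qM i) (qM j)) = true := by decide +kernel

/-- A block element. -/
noncomputable def gQ (i j : Fin 4) : G6 :=
  mkG (decM (blkC i j)) (adj_of_okU (blkC_eq i j).1)
    (by rw [show decM (blkC i j) = blkM (qM i) (qM j) from eqC_sound (blkC_eq i j).2, det_blkM,
      det_qM, det_qM, mul_one])

theorem mat_gQ (i j : Fin 4) : mat (gQ i j) = decM (blkC i j) := rfl

/-- The generator moving the base coset. -/
noncomputable def gG : G6 := gQ 1 1 * gS

/-- The four generators. -/
noncomputable def gen : ℕ → G6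
  | 0 => gT
  | 1 => gA
  | 2 => gB
  | _ => gG

/-- The code of a generator. -/
def genC (k : ℕ) : ℕ := genL.getD (min k 3) 0

theorem tau_code : eqC tauN (mon pT 0) = true := by decide +kernel

theorem mat_gS : mat gS = decM tauN := (eqC_sound tau_code).symm

theorem gen_code : eqC (genC 0) (mon 1 ![1, 2, 0, 0, 0, 0]) = true ∧
    eqC (genC 1) (mon pA 0) = true ∧
    eqC (genC 2) (mon pB 0) = true ∧
    mulP (blkC 1 1) tauN = genC 3 := by decide +kernel

theorem mat_gen : ∀ k, mat (gen k) = decM (genC k)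
  | 0 => (eqC_sound gen_code.1).symm
  | 1 => (eqC_sound gen_code.2.1).symm
  | 2 => (eqC_sound gen_code.2.2.1).symm
  | n + 3 => by
    show mat gG = _
    rw [gG, mat_mul, mat_gQ, mat_gS, ← decM_mul, gen_code.2.2.2]
    simp [genC]

/-- The element of a word. -/
noncomputable def val (w : List ℕ) : G6 := (w.map gen).prod

/-- The code of a word. -/
def valC (w : List ℕ) : ℕ := prodP (w.map genC)

theorem mat_prod (L : List G6) : mat L.prod = (L.map mat).prod := by
  induction L with
  | nil => simp [mat_one]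
  | cons a L ih => simp [mat_mul, ih]

theorem mat_val (w : List ℕ) : mat (val w) = decM (valC w) := by
  rw [val, mat_prod, valC, decM_prod, List.map_map, List.map_map]
  congr 1
  exact List.map_congr_left fun k _ => mat_gen k

/-! ### Representatives -/

/-- The code of a representative. -/
def repC (i : Fin 112) : ℕ := getW 72 repN i.val
/-- The code of the inverse of a representative. -/
def repI (i : Fin 112) : ℕ := getW 72 repInvN i.val

/-- A representative. -/
noncomputable def y (i : Fin 112) : G6 := val (repW.getD i.val [])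

/-- The representatives have their codes and inverses, and are not monomial except the first. -/
def repOK : Bool :=
  (repW.getD 0 [] == []) &&
  (List.finRange 112).all fun i =>
    valC (repW.getD i.val []) == repC i && mulP (repI i) (repC i) == oneP &&
    (i == 0 || (List.finRange 6).any fun r => (List.finRange 6).any fun c => (List.finRange 6).any
      fun d => c != d && dig c.val (row (repC i) r.val) != 0 && dig d.val (row (repC i) r.val) != 0)

theorem rep_ok : repOK = true := by decide +kernel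

theorem rep_facts (i : Fin 112) : mat (y i) = decM (repC i) ∧ mat (y i)⁻¹ = decM (repI i) := by
  have h := rep_ok
  simp only [repOK, Bool.and_eq_true, List.all_eq_true, List.mem_finRange, true_implies,
    beq_iff_eq] at h
  obtain ⟨⟨h1, h2⟩, -⟩ := h.2 i
  have e : mat (y i) = decM (repC i) := by rw [y, mat_val, h1]
  refine ⟨e, (left_inv_eq_right_inv (a := decM (repC i)) (by rw [← decM_mul, h2, decM_one]) ?_).symm⟩
  rw [← e, ← mat_mul, mul_inv_cancel, mat_one]

theorem y_zero : y 0 = 1 := by
  have h := rep_ok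
  simp only [repOK, Bool.and_eq_true, beq_iff_eq] at h
  show val (repW.getD 0 []) = 1
  rw [h.1]; rfl

theorem ofN_ne : ∀ d : Fin 4, d ≠ 0 → K4.ofN d.val ≠ 0 := by decide +kernel

theorem y_not_nor {i : Fin 112} (hy : y i ∈ nor) : i = 0 := by
  have h := rep_ok
  simp only [repOK, Bool.and_eq_true, List.all_eq_true, List.mem_finRange, true_implies,
    Bool.or_eq_true, List.any_eq_true, bne_iff_ne, ne_eq, beq_iff_eq] at h
  rcases (h.2 i).2 with h0 | ⟨r, -, c, -, d, -, ⟨hcd, hc⟩, hd⟩
  · exact h0
  exfalso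
  obtain ⟨p, e, hpe⟩ := mem_nor.1 hy
  rw [(rep_facts i).1] at hpe
  have hz : ∀ c : Fin 6, dig c.val (row (repC i) r.val) ≠ 0 → p c = r := by
    intro c hc
    by_contra hne
    have := congrFun (congrFun hpe r) c
    rw [mon_apply, if_neg hne] at this
    exact ofN_ne ⟨_, H57.G24J.dig_lt c.val (row (repC i) r.val)⟩
      (fun h => hc (congrArg Fin.val h)) this
  exact hcd (p.injective ((hz c hc).trans (hz d hd).symm))

/-! ### Even permutations -/

/-- A tabled even permutation, as a function. -/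
def altF (k : ℕ) (j : Fin 6) : Fin 6 :=
  ⟨getW 18 altN k / 8 ^ j.val % 8 % 6, Nat.mod_lt _ (by norm_num)⟩

/-- The table is closed along its tree. -/
def altOK : Bool :=
  ((List.finRange 6).all fun j => altF 0 j == j) &&
  (List.range 360).all fun k => k == 0 ||
    (Nat.blt (getW 10 altTree (k - 1) / 2) k &&
      (List.finRange 6).all fun j =>
        altF k j == (if getW 10 altTree (k - 1) % 2 == 0 then pA else pB)
          (altF (getW 10 altTree (k - 1) / 2) j))

theorem alt_ok : altOK = true := by decide +kernel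

theorem alt_perm : ∀ k < 360, ∃ p : Equiv.Perm (Fin 6),
    (∀ j, p j = altF k j) ∧ p ∈ Subgroup.closure {pA, pB} := by
  have h := alt_ok
  simp only [altOK, Bool.and_eq_true, List.all_eq_true, List.mem_finRange, true_implies,
    List.mem_range, Bool.or_eq_true, beq_iff_eq, Nat.blt_eq] at h
  intro k
  induction k using Nat.strong_induction_on with
  | _ k ih =>
    intro hk
    rcases h.2 k hk with rfl | ⟨hlt, he⟩
    · exact ⟨1, fun j => (h.1 j).symm, one_mem _⟩
    · obtain ⟨p, hp, hm⟩ := ih _ hlt (lt_trans hlt hk)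
      refine ⟨(if getW 10 altTree (k - 1) % 2 == 0 then pA else pB) * p, fun j => ?_, ?_⟩
      · rw [Equiv.Perm.mul_apply, hp, he j]; simp
      · refine mul_mem ?_ hm
        split <;> exact Subgroup.subset_closure (by simp)

theorem closure_alt : Subgroup.closure {pA, pB} = alternatingGroup (Fin 6) := by
  classical
  have hle : Subgroup.closure {pA, pB} ≤ alternatingGroup (Fin 6) := by
    rw [Subgroup.closure_le]
    rintro x (rfl | rfl)
    exacts [sign_pA, sign_pB]
  refine Subgroup.eq_of_le_of_card_ge hle ?_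
  choose p hp hm using alt_perm
  have hinj : Function.Injective fun k : Fin 360 =>
      (⟨p k.val k.isLt, hm k.val k.isLt⟩ : Subgroup.closure {pA, pB}) := by
    intro a b hab
    have h2 : ∀ a b : Fin 360, (∀ j, altF a.val j = altF b.val j) → a = b := by
      have h3 : ((List.finRange 360).map fun k : Fin 360 => getW 18 altN k.val).Nodup ∧
          ∀ k : Fin 360, getW 18 altN k.val =
            ((List.finRange 6).map fun j => (altF k.val j).val * 8 ^ j.val).sum := by decide +kernel
      intro a b hj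
      refine List.inj_on_of_nodup_map h3.1 (List.mem_finRange a) (List.mem_finRange b) ?_
      rw [h3.2 a, h3.2 b]
      simp only [hj]
    refine h2 a b fun j => ?_
    rw [← hp a.val a.isLt j, ← hp b.val b.isLt j]
    exact congrArg (fun q => (q : Subgroup.closure {pA, pB}).1 j) hab
  have := Nat.card_le_card_of_injective _ hinj
  rw [Nat.card_eq_fintype_card, Fintype.card_fin] at this
  rw [nat_card_alternatingGroup, Nat.card_fin]
  exact this

/-- A code matrix is monomial with a tabled permutation. -/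
def monAt (m k : ℕ) : Bool :=
  Nat.blt k 360 && (List.finRange 6).all fun i => (List.finRange 6).all fun j =>
    (dig j.val (row m i.val) == 0) == (i != altF k j)

theorem monAt_sound {m k : ℕ} (h : monAt m k = true) {g : G6} (hg : mat g = decM m) : g ∈ evn := by
  simp only [monAt, Bool.and_eq_true, Nat.blt_eq, List.all_eq_true, List.mem_finRange,
    true_implies, beq_iff_eq] at h
  obtain ⟨p, hp, hm⟩ := alt_perm k h.1
  rw [closure_alt] at hm
  have hz : ∀ i j, dig j.val (row m i.val) = 0 ↔ p j ≠ i := by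
    intro i j
    have := h.2 i j
    rw [hp, ne_comm]
    by_cases h0 : dig j.val (row m i.val) = 0
    · simp [h0] at this ⊢; exact this
    · rw [beq_eq_false_iff_ne.2 h0] at this
      simpa [h0] using this.symm
  choose e he using fun j => wp_surj (decM m (p j) j)
    (ofN_ne ⟨_, H57.G24J.dig_lt j.val (row m (p j).val)⟩
      (fun h0 => (hz (p j) j).1 (congrArg Fin.val h0) rfl))
  refine ⟨p, hm, e, ?_⟩
  rw [hg]
  ext i j
  rw [mon_apply]
  split
  · next hi => rw [he, hi]
  · next hi =>
    show K4.ofN _ = 0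
    rw [(hz i j).2 hi]; rfl

/-! ### The cosets -/

/-- The action of a tabled element on the cosets. -/
def piF (k : ℕ) (i : Fin 112) : Fin 112 :=
  ⟨getW 7 (piN.getD k 0) i.val % 112, Nat.mod_lt _ (by norm_num)⟩

/-- The eight tabled elements. -/
def eltW (k : ℕ) : List ℕ := if k < 4 then [k] else extraW.getD (k - 4) []

/-- A tabled element. -/
noncomputable def elt (k : ℕ) : G6 := val (eltW k)

/-- Every tabled element permutes the cosets. -/
def edgeOK : Bool :=
  (List.range 8).all fun k =>
    let g := valC (eltW k)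
    (decide (Function.Injective (fun i : Fin 112 => piF k i))) &&
    (List.finRange 112).all fun i =>
      monAt (mulP (repI (piF k i)) (mulP g (repC i))) (getW 9 (evnN.getD k 0) i.val)

theorem edge_ok : edgeOK = true := by decide +kernel

/-- `x` acts on the cosets as `π`. -/
def RelX (x : G6) (π : Equiv.Perm (Fin 112)) : Prop := ∀ i, (y (π i))⁻¹ * x * y i ∈ evn

theorem relX_one : RelX 1 1 := fun i => by simp

theorem relX_mul {a b : G6} {p q : Equiv.Perm (Fin 112)} (ha : RelX a p) (hb : RelX b q) :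
    RelX (a * b) (p * q) := by
  intro i
  have := evn.mul_mem (ha (q i)) (hb i)
  rwa [show (y (p (q i)))⁻¹ * a * y (q i) * ((y (q i))⁻¹ * b * y i) =
    (y ((p * q) i))⁻¹ * (a * b) * y i by rw [Equiv.Perm.mul_apply]; group] at this

theorem relX_inv {a : G6} {p : Equiv.Perm (Fin 112)} (ha : RelX a p) : RelX a⁻¹ p⁻¹ := by
  intro i
  have := evn.inv_mem (ha (p⁻¹ i))
  rw [show p (p⁻¹ i) = i from p.apply_symm_apply i] at this
  rwa [show ((y i)⁻¹ * a * y (p⁻¹ i))⁻¹ = (y (p⁻¹ i))⁻¹ * a⁻¹ * y i by group] at this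

theorem relX_elt {k : ℕ} (hk : k < 8) :
    ∃ π : Equiv.Perm (Fin 112), RelX (elt k) π ∧ ∀ i, π i = piF k i := by
  have h := edge_ok
  simp only [edgeOK, List.all_eq_true, List.mem_range, Bool.and_eq_true, decide_eq_true_eq,
    List.mem_finRange, true_implies] at h
  obtain ⟨hi, he⟩ := h k hk
  refine ⟨Equiv.ofBijective _ (Finite.injective_iff_bijective.1 hi), fun i => ?_, fun i => rfl⟩
  refine monAt_sound (he i) ?_
  show mat ((y (piF k i))⁻¹ * val (eltW k) * y i) = _
  rw [mat_mul, mat_mul, (rep_facts _).2, mat_val, (rep_facts _).1, decM_mul, decM_mul,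
    Matrix.mul_assoc]

/-- The stabiliser of the list of cosets. -/
def kon : Subgroup G6 where
  carrier := {x | ∃ π, RelX x π}
  one_mem' := ⟨1, relX_one⟩
  mul_mem' := fun ⟨_, ha⟩ ⟨_, hb⟩ => ⟨_, relX_mul ha hb⟩
  inv_mem' := fun ⟨_, ha⟩ => ⟨_, relX_inv ha⟩

theorem gen_mem_kon : ∀ k, gen k ∈ kon := by
  have h : ∀ k < 4, gen k ∈ kon := by
    intro k hk
    obtain ⟨π, hπ, -⟩ := relX_elt (show k < 8 by omega)
    refine ⟨π, ?_⟩
    simpa [elt, eltW, hk, val] using hπ
  intro k
  rcases Nat.lt_or_ge k 4 with hk | hk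
  · exact h k hk
  · obtain ⟨n, rfl⟩ : ∃ n, k = n + 3 := ⟨k - 3, by omega⟩
    exact h 3 (by norm_num)

theorem val_mem {H : Subgroup G6} (h : ∀ k, gen k ∈ H) (w : List ℕ) : val w ∈ H := by
  refine list_prod_mem fun x hx => ?_
  obtain ⟨k, -, rfl⟩ := List.mem_map.1 hx
  exact h k

theorem y_mem_kon (i : Fin 112) : y i ∈ kon := val_mem gen_mem_kon _

theorem elt_mem_kon (k : ℕ) : elt k ∈ kon := val_mem gen_mem_kon _

theorem mkN_mul {p q : Equiv.Perm (Fin 6)} {e f : Ev} (he : ∑ i, e i = 0) (hf : ∑ i, f i = 0)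
    (h : ∑ i, (fun j => e (q j) + f j) i = 0) : mkN p e he * mkN q f hf = mkN (p * q) _ h :=
  mat_inj (by rw [mat_mul, mat_mkN, mat_mkN, mat_mkN, mon_mul])

theorem basis_table : ∀ i : Fin 5, ∃ k : Fin 360,
    altF k.val 0 = i.castSucc ∧ altF k.val 1 = 5 := by decide +kernel

/-- The monomial subgroup over even permutations is generated by three matrices. -/
theorem evn_le {H : Subgroup G6} (hT : gT ∈ H) (hA : gA ∈ H) (hB : gB ∈ H) : evn ≤ H := by
  have hp : ∀ p : Equiv.Perm (Fin 6), p ∈ alternatingGroup (Fin 6) → mkN p 0 (by simp) ∈ H := by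
    intro p hp
    rw [← closure_alt] at hp
    induction hp using Subgroup.closure_induction with
    | mem x hx =>
      rcases hx with rfl | rfl
      exacts [hA, hB]
    | one =>
      rw [show mkN 1 0 _ = 1 from mat_inj (by rw [mat_mkN, mon_one, mat_one])]
      exact one_mem _
    | mul a b _ _ iha ihb =>
      rw [show mkN (a * b) 0 _ = mkN a 0 (by simp) * mkN b 0 (by simp) from
        mat_inj (by rw [mat_mkN, mat_mul, mat_mkN, mat_mkN, mon_mul]; simp; rfl)]
      exact mul_mem iha ihb
    | inv a _ iha =>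
      rw [show mkN a⁻¹ 0 _ = (mkN a 0 (by simp))⁻¹ from eq_inv_of_mul_eq_one_left
        (mat_inj (by rw [mat_mul, mat_mkN, mat_mkN, mon_mul, mat_one, inv_mul_cancel, ← mon_one]
                     simp; rfl))]
      exact inv_mem iha
  -- the diagonal part
  let v : Fin 5 → Ev := fun i j => if j = i.castSucc then 1 else if j = 5 then 2 else 0
  let S : AddSubgroup Ev :=
    { carrier := {e | ∃ t ∈ H, mat t = mon 1 e}
      zero_mem' := ⟨1, one_mem _, by rw [mat_one, mon_one]⟩
      add_mem' := fun ⟨s, hs, es⟩ ⟨t, ht, et⟩ => ⟨s * t, mul_mem hs ht, by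
        rw [mat_mul, es, et, mon_mul, one_mul]; rfl⟩
      neg_mem' := fun {e} ⟨t, ht, et⟩ => ⟨t⁻¹, inv_mem ht, by
        refine (left_inv_eq_right_inv (a := mat t) ?_ (by rw [← mat_mul, mul_inv_cancel, mat_one])).symm
        rw [et, mon_mul, one_mul, ← mon_one]
        congr 1
        funext j
        simp⟩ }
  have hv : ∀ i : Fin 5, v i ∈ S := by
    intro i
    obtain ⟨k, h0, h1⟩ := basis_table i
    obtain ⟨p, hpf, hpm⟩ := alt_perm k.val k.isLt
    rw [closure_alt] at hpm
    refine ⟨mkN p 0 (by simp) * gT * mkN p⁻¹ 0 (by simp),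
      mul_mem (mul_mem (hp p hpm) hT) (hp _ (inv_mem hpm)), ?_⟩
    simp only [gT, mat_mul, mat_mkN, mon_mul, mul_one, mul_inv_cancel]
    congr 1
    funext j
    have hj : ∀ a : Fin 6, (p⁻¹ j = a) ↔ j = p a := fun a => Equiv.Perm.inv_eq_iff_eq
    have a0 : (p⁻¹ j = 0) ↔ j = i.castSucc := by rw [hj, hpf, h0]
    have a1 : (p⁻¹ j = 1) ↔ j = 5 := by rw [hj, hpf, h1]
    show (0 : Ev) _ + _ + (0 : Ev) j = v i j
    simp only [Pi.zero_apply, zero_add, add_zero, v, ← a0, ← a1]
    generalize p⁻¹ j = a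
    revert a; decide +kernel
  rintro g ⟨p, hpm, e, he⟩
  have hsum : ∑ i, e i = 0 := sum_eq_zero_of_mat he
  have hd : ∀ f : Ev, ∑ i, f i = 0 → f = ∑ i : Fin 5, (f i.castSucc).val • v i := by decide +kernel
  have hes : ∑ i, e (p⁻¹ i) = 0 := by rw [Equiv.sum_comp p⁻¹ e]; exact hsum
  obtain ⟨t, ht, et⟩ : (fun j => e (p⁻¹ j)) ∈ S := by
    rw [hd _ hes]
    exact AddSubgroup.sum_mem S fun i _ => AddSubgroup.nsmul_mem S (hv i) _
  have : g = t * mkN p 0 (by simp) := mat_inj (by
    rw [he, mat_mul, et, mat_mkN, mon_mul, one_mul]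
    congr 1
    funext j
    simp)
  rw [this]
  exact mul_mem ht (hp p hpm)

theorem evn_le_kon : evn ≤ kon :=
  evn_le (gen_mem_kon 0) (gen_mem_kon 1) (gen_mem_kon 2)

theorem coset_inj {i j : Fin 112} (h : (y i)⁻¹ * y j ∈ evn) : i = j := by
  obtain ⟨π, hπ⟩ := kon.inv_mem (y_mem_kon i)
  have h0 : ∀ a, y a ∈ evn → a = 0 := fun a ha => y_not_nor (evn_le_nor ha)
  have hi : π i = 0 := h0 _ (by
    have := evn.inv_mem (hπ i)
    rwa [inv_mul_cancel_right, inv_inv] at this)
  have hj : π j = 0 := h0 _ (by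
    have := evn.inv_mem (evn.mul_mem (hπ j) (evn.inv_mem h))
    rwa [show ((y (π j))⁻¹ * (y i)⁻¹ * y j * ((y i)⁻¹ * y j)⁻¹)⁻¹ = y (π j) by group] at this)
  exact π.injective (hi.trans hj.symm)

theorem relX_unique {x : G6} {p q : Equiv.Perm (Fin 112)} (hp : RelX x p) (hq : RelX x q) : p = q :=
  Equiv.ext fun i => coset_inj (by
    have := evn.mul_mem (hp i) (evn.inv_mem (hq i))
    rwa [show (y (p i))⁻¹ * x * y i * ((y (q i))⁻¹ * x * y i)⁻¹ = (y (p i))⁻¹ * y (q i) by group]
      at this)

theorem exists_coset {x : G6} (hx : x ∈ kon) : ∃ i, ∃ m ∈ evn, x = y i * m := by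
  obtain ⟨π, hπ⟩ := hx
  refine ⟨π 0, (y (π 0))⁻¹ * x * y 0, hπ 0, ?_⟩
  rw [y_zero]; group

theorem kon_eq : kon = evn ⊔ Subgroup.zpowers gG := by
  refine le_antisymm (fun x hx => ?_) (sup_le evn_le_kon
    ((Subgroup.zpowers_le).2 (gen_mem_kon 3)))
  obtain ⟨i, m, hm, rfl⟩ := exists_coset hx
  refine mul_mem (val_mem (fun k => ?_) _) (Subgroup.mem_sup_left hm)
  have hev : ∀ {p e}, p ∈ alternatingGroup (Fin 6) → (h : ∑ i, e i = 0) → mkN p e h ∈ evn :=
    fun {p e} hp h => ⟨p, hp, e, rfl⟩
  match k with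
  | 0 => exact Subgroup.mem_sup_left (hev (one_mem _) (by decide +kernel))
  | 1 => exact Subgroup.mem_sup_left (hev sign_pA (by simp))
  | 2 => exact Subgroup.mem_sup_left (hev sign_pB (by simp))
  | n + 3 => exact Subgroup.mem_sup_right (Subgroup.mem_zpowers gG)

theorem kon_inter_nor {x : G6} (hx : x ∈ kon) (hn : x ∈ nor) : x ∈ evn := by
  obtain ⟨i, m, hm, rfl⟩ := exists_coset hx
  obtain rfl := y_not_nor (i := i) (by simpa using nor.mul_mem hn (nor.inv_mem (evn_le_nor hm)))
  rw [y_zero, one_mul]; exact hm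

theorem card_kon : Nat.card kon = 112 * (360 * 243) := by
  rw [← card_evn, show (112 : ℕ) = Nat.card (Fin 112) by simp, ← Nat.card_prod]
  refine (Nat.card_eq_of_bijective (fun z : Fin 112 × evn =>
    (⟨y z.1 * z.2.1, kon.mul_mem (y_mem_kon _) (evn_le_kon z.2.2)⟩ : kon)) ⟨?_, ?_⟩).symm
  · rintro ⟨i, m⟩ ⟨j, n⟩ h
    have h' : y i * m.1 = y j * n.1 := congrArg Subtype.val h
    obtain rfl := coset_inj (i := i) (j := j) (by
      rw [show (y i)⁻¹ * y j = m.1 * n.1⁻¹ by
        rw [eq_mul_inv_iff_mul_eq, mul_assoc, ← h', inv_mul_cancel_left]]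
      exact evn.mul_mem m.2 (evn.inv_mem n.2))
    exact Prod.ext rfl (Subtype.ext (mul_left_cancel h'))
  · rintro ⟨x, hx⟩
    obtain ⟨i, m, hm, rfl⟩ := exists_coset hx
    exact ⟨(i, ⟨m, hm⟩), rfl⟩

end H57.U43
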