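import Cfsg.Agent.H81.U43.Cover
import Cfsg.Agent.H50.Simple
import Cfsg.Agent.H81.U43.Bound
import Cfsg.Agent.H57.UFour.Kone

/-! Four matrices generate `SU₄(3)` over the field with nine elements. -/

set_option autoImplicit false

namespace H57.U43

open H94.U43 (ad9 mu9 cj9 C4 ofRows mm4 scal meq4 isU det4')
open H81.U43
open Cfsg Matrix

universe u

variable {F : Type u} [Field F] [Fintype F] (hF : Fintype.card F = 9) (c : Coord F)

include hF in
/-- A subgroup containing the four tabled matrices is everything. -/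
theorem gen4_top {H : Subgroup (SU 4 F 3)} (hgen : ∀ k < 4, c.el hF (liftM k) ∈ H) : H = ⊤ := by
  classical
  have hF2 : Fintype.card F = 3 ^ 2 := Coord.card_sq hF
  have hmeq : ∀ {A B : C4}, meq4 A B = true → A = B := fun {A B} h => by
    simp only [meq4, List.all_eq_true, List.mem_finRange, true_implies, beq_iff_eq] at h
    exact funext fun i => funext fun j => h i j
  have hokT : ∀ k < 12, okM (liftM k) = true := by decide +kernel
  have hmv : ∀ (k : ℕ), k < 12 → ∀ v : Fin 4 → Fin 9,
      H50.suMat (c.el hF (liftM k)) *ᵥ (fun i => c.φ (v i)) = fun i => c.φ (mvC (liftM k) v i) := by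
    intro k hk v
    rw [c.el_coe hF (hokT k hk)]
    ext i
    simp [Matrix.mulVec, dotProduct, Coord.up, mvC, c.add, c.mul, Fin.sum_univ_four]
    ring
  let v0 : Fin 4 → F := fun i => c.φ (baseV i)
  have ht := tree_ok
  simp only [treeOK, Bool.and_eq_true, List.all_eq_true, List.mem_finRange, true_implies,
    List.mem_range, beq_iff_eq, Bool.or_eq_true, Nat.blt_eq, bne_iff_ne, ne_eq] at ht
  have horb : ∀ k < 280, ∃ g ∈ H, ∃ l : F,
      (fun i => c.φ (isoV k i)) = l • (H50.suMat g *ᵥ v0) := by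
    intro k
    induction k using Nat.strong_induction_on with
    | _ k ih =>
      intro hk
      rcases ht.2 k hk with rfl | ⟨⟨hlt, -⟩, he⟩
      · refine ⟨1, one_mem _, 1, ?_⟩
        rw [one_smul, H50.suMat_one, Matrix.one_mulVec]
        ext i
        rw [← ht.1 i, c.mul, c.one, one_mul]
      · obtain ⟨g, hg, l, hl⟩ := ih _ hlt (lt_trans hlt hk)
        set j := fld treeN 15 k / 512 % 4
        set l' : Fin 9 := ⟨fld treeN 15 k / 2048 % 9, Nat.mod_lt _ (by norm_num)⟩
        have hj : j < 12 := by omega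
        have hj4 : j < 4 := by omega
        refine ⟨c.el hF (liftM j) * g, mul_mem (hgen j hj4) hg, c.φ l' * l, ?_⟩
        rw [H50.suMat_mulVec_mul, ← smul_smul, ← Matrix.mulVec_smul, ← hl, hmv j hj]
        ext i
        rw [Pi.smul_apply, smul_eq_mul, ← c.mul, he i]
  rw [eq_top_iff, ← H50.transSub_eq_top hF2 4 (by norm_num) (by norm_num), H50.transSub,
    Subgroup.closure_le]
  rintro A ⟨v, a, hv, hA⟩
  rcases eq_or_ne v 0 with rfl | hv0
  · have : A = 1 := H50.SU_ext (by
      show H50.suMat A = H50.suMat (1 : SU 4 F 3)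
      rw [hA, H50.suMat_one]
      ext i j
      simp [Cfsg.unitaryTransvection, Matrix.vecMulVec])
    rw [this]; exact one_mem H
  -- the point of `v` is in the list
  choose ψ hψ using c.bij.2
  let w : Fin 4 → Fin 9 := fun i => ψ (v i)
  let N : ℕ := (w 0).val + 9 * (w 1).val + 81 * (w 2).val + 729 * (w 3).val
  have hdig : ∀ i : Fin 4, dig N i.val = w i := by
    intro i
    have h0 := (w 0).isLt; have h1 := (w 1).isLt; have h2 := (w 2).isLt; have h3 := (w 3).isLt
    refine Fin.ext ?_
    fin_cases i <;> simp only [dig, N, Fin.val_zero, Fin.val_one, Fin.val_two, pow_zero, pow_one,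
      Nat.div_one, Fin.isValue, show ((3 : Fin 4) : ℕ) = 3 from rfl, Fin.zero_eta, Fin.mk_one,
      Fin.reduceFinMk] <;> omega
  have hN : N < 6561 := by
    have h0 := (w 0).isLt; have h1 := (w 1).isLt; have h2 := (w 2).isLt; have h3 := (w 3).isLt
    omega
  have hc := cover_ok
  simp only [coverOK, List.all_eq_true, List.mem_range, Bool.or_eq_true, bne_iff_ne, ne_eq,
    beq_iff_eq, Bool.and_eq_true, Nat.blt_eq, List.mem_finRange, true_implies] at hc
  have hw : (fun i => c.φ (w i)) = v := funext fun i => hψ _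
  obtain ⟨⟨hl0, hklt⟩, hk⟩ : (leadInv (fun i => dig N i.val) ≠ 0 ∧ _) ∧ _ := by
    rcases hc N hN with (h | h) | h
    · exfalso
      refine h (c.bij.1 ?_)
      simp only [hdig, c.add, c.mul, c.cj hF, c.zero, hψ, w]
      simp only [Cfsg.hermForm, Fin.sum_univ_four] at hv
      linear_combination hv
    · exfalso
      refine hv0 (funext fun i => ?_)
      have : w i = 0 := by
        rw [← hdig i, h]
        exact Fin.ext (by simp [dig])
      rw [← hψ (v i)]
      show c.φ (w i) = 0
      rw [this, c.zero]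
    · exact h
  obtain ⟨g, hg, l, hl⟩ := horb _ hklt
  have hl0' : c.φ (leadInv fun i => dig N i.val) ≠ 0 := fun h => hl0 (c.bij.1 (by rw [h, c.zero]))
  have hvg : v = ((c.φ (leadInv fun i => dig N i.val))⁻¹ * l) • (H50.suMat g *ᵥ v0) := by
    rw [← smul_smul, ← hl, eq_inv_smul_iff₀ hl0']
    ext i
    rw [Pi.smul_apply, smul_eq_mul, ← hk i, c.mul, hdig i, hψ]
  set μ := (c.φ (leadInv fun i => dig N i.val))⁻¹ * l
  -- pull back to the base vector
  have hut : ∀ (x : Fin 4 → F) (μ a : F),
      unitaryTransvection 4 3 (μ • x) a = unitaryTransvection 4 3 x (a * μ ^ 4) := by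
    intro x μ a
    ext i j
    simp only [Cfsg.unitaryTransvection, Matrix.add_apply, Matrix.smul_apply, Matrix.vecMulVec_apply,
      Pi.smul_apply, smul_eq_mul]
    ring
  have hT : H50.suMat (g⁻¹ * A * g) = unitaryTransvection 4 3 v0 (a * μ ^ 4) := by
    rw [H50.suMat_mul, H50.suMat_mul, hA, hvg, hut, mul_assoc,
      ← H50.iso_mul_ut (H50.SU_isIso g), ← mul_assoc, ← H50.suMat_mul, inv_mul_cancel,
      H50.suMat_one, one_mul]
  have hv00 : v0 ≠ 0 := fun h => by
    have := congrFun h 2
    simp only [v0, baseV, Pi.zero_apply] at this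
    simp [c.one] at this
  have hiso : hermForm 4 F 3 v0 v0 = 0 := by
    simp only [Cfsg.hermForm, Fin.sum_univ_four, v0]
    rw [← c.cj hF, ← c.cj hF, ← c.cj hF, ← c.cj hF, ← c.mul, ← c.mul, ← c.mul, ← c.mul, ← c.add,
      ← c.add, ← c.add, ← c.zero]
    exact congrArg c.φ (by decide)
  have hTi : H50.IsIso 3 (H50.suMat (g⁻¹ * A * g)) := H50.SU_isIso _
  rw [hT] at hTi
  have hcond := (H50.ut_isIso_iff hF2 hv00).1 hTi
  rw [hiso, mul_zero, add_zero] at hcond
  obtain ⟨x, hx⟩ := c.bij.2 (a * μ ^ 4)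
  rw [← hx, ← c.cj hF, ← c.add, ← c.zero] at hcond
  have hb := base_ok
  simp only [baseOK, List.all_eq_true, List.mem_finRange, true_implies, Bool.or_eq_true,
    bne_iff_ne, ne_eq, List.any_eq_true] at hb
  obtain ⟨s, -, hs⟩ := (hb x).resolve_left (fun h => h (c.bij.1 hcond))
  have hB1 : liftM 1 = cB 1 := by
    have := layout_ok
    simp only [layoutOK, Bool.and_eq_true] at this
    exact hmeq this.1.1.1.1.1.1.1
  have hBs : ∀ s : ZMod 3, c.el hF (cB s) ∈ H := by
    intro s
    have h1 : c.el hF (cB 1) ∈ H := hB1 ▸ hgen 1 (by norm_num)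
    have h2 : c.el hF (cB 2) ∈ H := by
      have := c.el_eq hF (l := [cB 2]) (r := [cB 1, cB 1]) (by decide +kernel)
      simp at this
      rw [this]; exact mul_mem h1 h1
    have h0 : c.el hF (cB 0) ∈ H := by
      have := c.el_eq hF (l := [cB 0]) (r := [cB 1, cB 2]) (by decide +kernel)
      simp at this
      rw [this]; exact mul_mem h1 h2
    fin_cases s
    exacts [h0, h1, h2]
  have hokB : ∀ s : ZMod 3, okM (cB s) = true := by decide +kernel
  have hTe : g⁻¹ * A * g = c.el hF (cB s) := by
    refine H50.SU_ext ?_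
    show H50.suMat (g⁻¹ * A * g) = H50.suMat (c.el hF (cB s))
    rw [hT, ← hx]
    rw [c.el_coe hF (hokB s), ← hmeq hs]
    ext i j
    simp only [Cfsg.unitaryTransvection, Matrix.add_apply, Matrix.smul_apply, Matrix.vecMulVec_apply,
      smul_eq_mul, Coord.up, utC, Matrix.of_apply, c.add, c.mul, c.cj hF, v0]
    rcases eq_or_ne i j with h | h
    · subst h; simp [scal, c.one]; ring
    · simp [scal, h, c.zero]; ring
  have : A = g * c.el hF (cB s) * g⁻¹ := by rw [← hTe]; group
  rw [this]
  exact mul_mem (mul_mem hg (hBs s)) (inv_mem hg)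

end H57.U43
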