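import Cfsg.Agent.H57.UFour.Action
import Cfsg.Agent.H57.UFour.Blocks

/-! `SU₆(2)` has exactly three classes of subgroups `3.U₄(3)`. -/

set_option autoImplicit false
set_option maxRecDepth 20000

namespace H57.U43

open H35.G24 Cfsg Matrix

/-! ### Generalities -/

theorem card_map_ker {G Q : Type*} [Group G] [Group Q] [Finite G] (f : G →* Q)
    (hf : Function.Surjective f) (S : Subgroup G) (h : f.ker ≤ S) :
    Nat.card S = Nat.card (S.map f) * Nat.card f.ker := by
  haveI : Finite Q := Finite.of_surjective f hf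
  have h1 := Subgroup.card_mul_index S
  have h2 := Subgroup.card_mul_index (S.map f)
  rw [Subgroup.index_map_eq S hf h] at h2
  have h3 := Subgroup.card_eq_card_quotient_mul_card_subgroup f.ker
  rw [Nat.card_congr (QuotientGroup.quotientKerEquivOfSurjective f hf).toEquiv] at h3
  have hi : S.index ≠ 0 := Subgroup.index_ne_zero_of_finite
  refine Nat.eq_of_mul_eq_mul_right (Nat.pos_of_ne_zero hi) ?_
  rw [h1, h3, mul_right_comm, h2]

theorem card_G6 : Nat.card G6 = 3 ^ 7 * 12615680 := by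
  have h1 := H50.card_SU_mul (F := K4) (n := 6) (q := 2) hK4 (by norm_num)
  rw [H50.card_GU hK4] at h1
  norm_num [Fin.prod_univ_succ, Finset.prod_range_succ] at h1 ⊢
  show Nat.card ↥(Cfsg.SU 6 K4 2) = _
  omega

theorem quot_congr {A B : Type*} [Group A] [Group B] (e : A ≃* B) :
    Nat.card (Subgroup.center A) = Nat.card (Subgroup.center B) ∧
      Nonempty (A ⧸ Subgroup.center A ≃* B ⧸ Subgroup.center B) := by
  have h : (Subgroup.center A).map e.toMonoidHom = Subgroup.center B := by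
    ext b
    constructor
    · rintro ⟨a, ha, rfl⟩
      refine Subgroup.mem_center_iff.2 fun x => ?_
      obtain ⟨x', rfl⟩ := e.surjective x
      show e x' * e a = e a * e x'
      rw [← map_mul, ← map_mul, Subgroup.mem_center_iff.1 ha x']
    · intro hb
      refine ⟨e.symm b, Subgroup.mem_center_iff.2 fun x => e.injective ?_, e.apply_symm_apply b⟩
      rw [map_mul, map_mul, e.apply_symm_apply]
      exact Subgroup.mem_center_iff.1 hb _
  exact ⟨by rw [← h, Subgroup.card_map_of_injective e.injective],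
    ⟨QuotientGroup.congr _ _ e h⟩⟩

theorem mem_center_iff_zed {H : Subgroup G6} (hz : zed ≤ H)
    (hc : Nat.card (Subgroup.center H) = 3) (x : H) : x ∈ Subgroup.center H ↔ x.1 ∈ zed := by
  have h : zed.subgroupOf H = Subgroup.center H := by
    refine Subgroup.eq_of_le_of_card_ge (fun x hx => Subgroup.mem_center_iff.2 fun g =>
      Subtype.ext (Subgroup.mem_center_iff.1 (zed_le_center hx) g.1)) ?_
    rw [hc, Nat.card_congr (Subgroup.subgroupOfEquivOfLe hz).toEquiv, card_zed]
  rw [← h]; rfl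

/-! ### The three subgroups -/

/-- The three subgroups. -/
noncomputable def konK (k : Fin 3) : Subgroup G6 := kon.map (dAut (dEk k)).toMonoidHom

theorem konK_eq (k : Fin 3) : konK k = evn ⊔ Subgroup.zpowers (gk k) := by
  rw [konK, kon_eq, Subgroup.map_sup, evn, map_dAut_sub, MonoidHom.map_zpowers]
  rfl

theorem gk_zero : gk 0 = gG := by
  have : dEk 0 = 0 := funext fun j => by simp [dEk]
  rw [gk, this, dconj_zero]

theorem konK_zero : konK 0 = kon := by rw [konK_eq, gk_zero, kon_eq]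

theorem card_konK (k : Fin 3) : Nat.card (konK k) = 112 * (360 * 243) := by
  rw [konK, Subgroup.card_map_of_injective (dAut (dEk k)).injective, card_kon]

theorem zed_le_evn : zed ≤ evn := zed_le_tor.trans tor_le_evn

variable {F : Type} [Field F] [Fintype F] (hF : Fintype.card F = 9)

include hF in
theorem konK_facts (k : Fin 3) : Nat.card (Subgroup.center ↥(konK k)) = 3 ∧
    Nonempty (↥(konK k) ⧸ Subgroup.center ↥(konK k) ≃* PSU 4 F 3) := by
  obtain ⟨c⟩ := H81.U43.exists_coord hF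
  obtain ⟨h1, ⟨e1⟩⟩ := kon_facts hF c
  obtain ⟨h2, ⟨e2⟩⟩ := quot_congr
    (kon.equivMapOfInjective (dAut (dEk k)).toMonoidHom (dAut (dEk k)).injective)
  exact ⟨h2.symm.trans h1, ⟨e2.symm.trans e1⟩⟩

/-! ### Uniqueness -/

/-- The subgroup corresponding to a subgroup of the model. -/
noncomputable def phm {K : Subgroup G6}
    (f : ↥kon ⧸ Subgroup.center kon ≃* ↥K ⧸ Subgroup.center K) (S : Subgroup G6) : Subgroup G6 :=
  ((((S.subgroupOf kon).map (QuotientGroup.mk' (Subgroup.center kon))).map f.toMonoidHom).comap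
    (QuotientGroup.mk' (Subgroup.center K))).map K.subtype

theorem mem_phm {K : Subgroup G6} {f : ↥kon ⧸ Subgroup.center kon ≃* ↥K ⧸ Subgroup.center K}
    {S : Subgroup G6} {z : G6} :
    z ∈ phm f S ↔ ∃ (hz : z ∈ K) (x : kon), x.1 ∈ S ∧
      f (QuotientGroup.mk x) = QuotientGroup.mk (⟨z, hz⟩ : K) := by
  constructor
  · intro hz
    obtain ⟨w, hw, rfl⟩ := Subgroup.mem_map.1 hz
    obtain ⟨q, hq, hqe⟩ := Subgroup.mem_map.1 (Subgroup.mem_comap.1 hw)
    obtain ⟨x, hx, rfl⟩ := Subgroup.mem_map.1 hq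
    exact ⟨w.2, x, Subgroup.mem_subgroupOf.1 hx, hqe⟩
  · rintro ⟨hz, x, hx, he⟩
    exact Subgroup.mem_map.2 ⟨⟨z, hz⟩, Subgroup.mem_comap.2 (Subgroup.mem_map.2
      ⟨_, Subgroup.mem_map.2 ⟨x, Subgroup.mem_subgroupOf.2 hx, rfl⟩, he⟩), rfl⟩

theorem phm_le {K : Subgroup G6} (f : ↥kon ⧸ Subgroup.center kon ≃* ↥K ⧸ Subgroup.center K)
    (S : Subgroup G6) : phm f S ≤ K := fun _ hz => (mem_phm.1 hz).1

theorem card_phm {K : Subgroup G6} (f : ↥kon ⧸ Subgroup.center kon ≃* ↥K ⧸ Subgroup.center K)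
    (hcK : Nat.card (Subgroup.center K) = 3) (hck : Nat.card (Subgroup.center kon) = 3)
    {S : Subgroup G6} (hzS : zed ≤ S) (hS : S ≤ kon) : Nat.card (phm f S) = Nat.card S := by
  have hker : Subgroup.center kon ≤ S.subgroupOf kon := fun x hx => Subgroup.mem_subgroupOf.2
    (hzS ((mem_center_iff_zed (zed_le_evn.trans evn_le_kon) hck x).1 hx))
  rw [phm, Subgroup.card_map_of_injective K.subtype_injective,
    ← Nat.card_congr (Subgroup.subgroupOfEquivOfLe hS).toEquiv,
    card_map_ker (QuotientGroup.mk' (Subgroup.center kon)) (QuotientGroup.mk'_surjective _)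
      (S.subgroupOf kon) (by rw [QuotientGroup.ker_mk']; exact hker),
    QuotientGroup.ker_mk', hck]
  have h := card_map_ker (QuotientGroup.mk' (Subgroup.center K)) (QuotientGroup.mk'_surjective _)
    ((((S.subgroupOf kon).map (QuotientGroup.mk' (Subgroup.center kon))).map f.toMonoidHom).comap
      (QuotientGroup.mk' (Subgroup.center K))) (Subgroup.ker_le_comap _ _)
  rw [h, QuotientGroup.ker_mk', hcK,
    Subgroup.map_comap_eq_self_of_surjective (QuotientGroup.mk'_surjective _),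
    Subgroup.card_map_of_injective f.injective]

theorem fix_tE : ∀ (i j : Fin 3) (x : Fin 6), tE ((pA ^ i.val * pC ^ j.val) x) = tE x := by
  decide +kernel

theorem syl_comm_tdist {a : G6} (ha : a ∈ syl) : a * tdist = tdist * a := by
  obtain ⟨p, hp, e, he⟩ := ha
  obtain ⟨i, j, rfl⟩ := hp
  refine mat_inj ?_
  rw [mat_mul, mat_mul, he, tdist, mat_mkN, mon_mul, mon_mul, mul_one, one_mul]
  congr 1
  funext x
  simp only [fix_tE, Equiv.Perm.coe_one, id_eq]
  exact add_comm _ _

theorem tdist_not_zed : tdist ∉ zed := by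
  intro h
  obtain ⟨c, hc⟩ := mem_zed h
  have h1 := (mon_inj hc).2
  have h0 : tE 0 = c := congrFun h1 0
  have h3 : tE 3 = c := congrFun h1 3
  exact absurd (h0.trans h3.symm) (by decide)

theorem tE_two : ∀ s : Fin 6, tE s ≠ 2 := by decide +kernel

theorem shift_zero : ∀ (a c d : ZMod 3), a ≠ 0 → (∀ r : Fin 6, ∃ s : Fin 6,
    a * tE s + c = d + (a * tE r + c)) → d = 0 := by decide +kernel

/-- Conjugating the distinguished element modulo scalars to itself means commuting with it. -/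
theorem comm_of_comm_mod {g : G6} {u : G6} {a c : ZMod 3} (ha : a ≠ 0)
    (hu : mat u = mon 1 fun i => a * tE i + c) (h : g * u * g⁻¹ * u⁻¹ ∈ zed) :
    mat g * mon 1 tE = mon 1 tE * mat g := by
  obtain ⟨d, hd⟩ := mem_zed h
  have he := congrArg mat (show g * u = (g * u * g⁻¹ * u⁻¹) * u * g by group)
  rw [mat_mul, mat_mul, mat_mul _ u, hd, hu, mon_mul] at he
  have hent : ∀ r s, mat g r s ≠ 0 → a * tE s + c = d + (a * tE r + c) := by
    intro r s h0
    have := congrFun (congrFun he r) s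
    rw [Matrix.mul_apply, Matrix.mul_apply, Finset.sum_eq_single s, Finset.sum_eq_single r] at this
    · simp only [mon_apply, Equiv.Perm.coe_one, Equiv.Perm.mul_apply, id_eq, if_pos] at this
      rw [mul_comm] at this
      exact wp_inj _ _ (mul_right_cancel₀ h0 this)
    all_goals first | (intro c _ hc; simp [mon_apply, hc, Ne.symm hc]) | simp
  have hd0 : d = 0 := shift_zero a c d ha fun r => by
    by_contra! hall
    have := congrFun (congrFun (show mat g * mat g⁻¹ = 1 by
      rw [← mat_mul, mul_inv_cancel, mat_one]) r) r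
    have hz : ∀ s, mat g r s = 0 := fun s => by
      by_contra h0; exact hall s (hent r s h0)
    simp [Matrix.mul_apply, hz] at this
  subst hd0
  ext r s
  rw [Matrix.mul_apply, Matrix.mul_apply, Finset.sum_eq_single s, Finset.sum_eq_single r]
  · simp only [mon_apply, Equiv.Perm.coe_one, id_eq, if_pos]
    by_cases h0 : mat g r s = 0
    · rw [h0, zero_mul, mul_zero]
    · have h1 := hent r s h0
      rw [zero_add, add_left_inj] at h1
      rw [mul_left_cancel₀ ha h1, mul_comm]
  all_goals first | (intro c _ hc; simp [mon_apply, hc, Ne.symm hc]) | simp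

theorem gS_mem_nor : gS ∈ nor := mem_nor.2 ⟨pT, 0, rfl⟩

theorem gS_not_evn : gS ∉ evn := by
  rintro ⟨p, hp, e, he⟩
  obtain ⟨rfl, -⟩ := mon_inj he
  rw [Equiv.Perm.mem_alternatingGroup, sign_pT] at hp
  exact absurd hp (by decide)

theorem evn_or_shift {n : G6} (hn : n ∈ nor) : n ∈ evn ∨ gS * n ∈ evn := by
  obtain ⟨p, e, he⟩ := mem_nor.1 hn
  rcases Int.units_eq_one_or (Equiv.Perm.sign p) with h | h
  · exact Or.inl ⟨p, h, e, he⟩
  · refine Or.inr ⟨pT * p, ?_, fun j => (0 : Ev) (p j) + e j, ?_⟩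
    · rw [Equiv.Perm.mem_alternatingGroup, map_mul, sign_pT, h]; rfl
    · rw [mat_mul, he, show mat gS = mon pT 0 from rfl, mon_mul]

set_option maxHeartbeats 2000000 in
include hF in
/-- A subgroup of this shape containing the Sylow subgroup is one of the three. -/
theorem eq_konK_of_syl {K : Subgroup G6} (hs : syl ≤ K) (hKcard : Nat.card K = 112 * (360 * 243))
    (hcK : Nat.card (Subgroup.center K) = 3)
    (hiso : Nonempty (↥K ⧸ Subgroup.center K ≃* PSU 4 F 3)) : ∃ k, K = konK k := by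
  classical
  obtain ⟨c⟩ := H81.U43.exists_coord hF
  obtain ⟨hck, ⟨e1⟩⟩ := kon_facts hF c
  obtain ⟨e2⟩ := hiso
  have hzK : zed ≤ K := (zed_le_tor.trans tor_le_syl).trans hs
  have hzk : zed ≤ kon := zed_le_evn.trans evn_le_kon
  have hsk : syl ≤ kon := syl_le_evn.trans evn_le_kon
  have hzs : zed ≤ syl := zed_le_tor.trans tor_le_syl
  haveI : Fact (Nat.Prime 3) := ⟨Nat.prime_three⟩
  -- an isomorphism fixing the Sylow subgroup
  obtain ⟨f, hfsyl⟩ : ∃ f : ↥kon ⧸ Subgroup.center kon ≃* ↥K ⧸ Subgroup.center K,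
      phm f syl = syl := by
    let f0 := e1.trans e2.symm
    have hfac : (Nat.card K).factorization 3 = 7 := by
      rw [hKcard, show 112 * (360 * 243) = 3 ^ 7 * 4480 by norm_num,
        Nat.factorization_mul (by norm_num) (by norm_num), Nat.Prime.factorization_pow Nat.prime_three]
      simp [Nat.factorization_eq_zero_of_not_dvd (show ¬ 3 ∣ 4480 by norm_num)]
    have hc0 : Nat.card ((phm f0 syl).subgroupOf K) = 3 ^ (Nat.card K).factorization 3 := by
      rw [Nat.card_congr (Subgroup.subgroupOfEquivOfLe (phm_le f0 syl)).toEquiv,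
        card_phm f0 hcK hck hzs hsk, card_syl, hfac]
    have hc1 : Nat.card (syl.subgroupOf K) = 3 ^ (Nat.card K).factorization 3 := by
      rw [Nat.card_congr (Subgroup.subgroupOfEquivOfLe hs).toEquiv, card_syl, hfac]
    obtain ⟨k, hk⟩ := MulAction.exists_smul_eq K
      (Sylow.ofCard _ hc0 : Sylow 3 K) (Sylow.ofCard _ hc1 : Sylow 3 K)
    have hk' : ((phm f0 syl).subgroupOf K).map (MulAut.conj k).toMonoidHom = syl.subgroupOf K := by
      exact congrArg (fun P : Sylow 3 K => (P : Subgroup K)) hk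
    have hcen : (Subgroup.center K).map (MulAut.conj k).toMonoidHom = Subgroup.center K := by
      ext x
      constructor
      · rintro ⟨z, hz, rfl⟩
        show k * z * k⁻¹ ∈ _
        rwa [Subgroup.mem_center_iff.1 hz k, mul_inv_cancel_right]
      · intro hx
        refine ⟨x, hx, ?_⟩
        show k * x * k⁻¹ = x
        rw [Subgroup.mem_center_iff.1 hx k, mul_inv_cancel_right]
    let f := f0.trans (QuotientGroup.congr _ _ (MulAut.conj k) hcen)
    refine ⟨f, le_antisymm ?_ ?_⟩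
    · intro z hz
      obtain ⟨hzK', x, hx, he⟩ := mem_phm.1 hz
      obtain ⟨w, hw⟩ := QuotientGroup.mk_surjective (f0 (QuotientGroup.mk x))
      have hwm : w.1 ∈ phm f0 syl := mem_phm.2 ⟨w.2, x, hx, hw.symm⟩
      have h1 : (k * w * k⁻¹).1 ∈ syl := Subgroup.mem_subgroupOf.1
        (hk' ▸ Subgroup.mem_map.2 ⟨w, Subgroup.mem_subgroupOf.2 hwm, rfl⟩ :
          k * w * k⁻¹ ∈ syl.subgroupOf K)
      have h2 : (QuotientGroup.mk (⟨z, hzK'⟩ : K) : ↥K ⧸ Subgroup.center K) =
          QuotientGroup.mk (k * w * k⁻¹) := by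
        rw [← he]
        show QuotientGroup.congr _ _ (MulAut.conj k) hcen (f0 (QuotientGroup.mk x)) = _
        rw [← hw]
        rfl
      have h3 : ((k * w * k⁻¹)⁻¹ * ⟨z, hzK'⟩ : K).1 ∈ zed :=
        (mem_center_iff_zed hzK hcK _).1 (QuotientGroup.eq.1 h2.symm)
      have h6 := syl.mul_mem h1 (hzs h3)
      rw [Subgroup.coe_mul _ _ ⟨z, hzK'⟩, Subgroup.coe_inv, mul_inv_cancel_left] at h6
      exact h6
    · intro z hz
      obtain ⟨w, hw, hwe⟩ := Subgroup.mem_map.1
        (hk'.symm ▸ (Subgroup.mem_subgroupOf.2 hz : (⟨z, hs hz⟩ : K) ∈ syl.subgroupOf K) :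
          (⟨z, hs hz⟩ : K) ∈ ((phm f0 syl).subgroupOf K).map (MulAut.conj k).toMonoidHom)
      obtain ⟨_, x, hx, he⟩ := mem_phm.1 (Subgroup.mem_subgroupOf.1 hw)
      refine mem_phm.2 ⟨hs hz, x, hx, ?_⟩
      show QuotientGroup.congr _ _ (MulAut.conj k) hcen (f0 (QuotientGroup.mk x)) = _
      rw [he, ← hwe]
      rfl
  -- images
  have himg : ∀ x : kon, ∃ z : K, f (QuotientGroup.mk x) = QuotientGroup.mk z := fun x =>
    (QuotientGroup.mk_surjective (f (QuotientGroup.mk x))).imp fun _ h => h.symm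
  have hpre : ∀ z : K, ∃ x : kon, f (QuotientGroup.mk x) = QuotientGroup.mk z := fun z => by
    obtain ⟨x, hx⟩ := QuotientGroup.mk_surjective (f.symm (QuotientGroup.mk z))
    exact ⟨x, by rw [hx, f.apply_symm_apply]⟩
  have hsame : ∀ {x x' : kon}, f (QuotientGroup.mk x) = f (QuotientGroup.mk x') →
      (x⁻¹ * x' : kon).1 ∈ zed := fun h =>
    (mem_center_iff_zed hzk hck _).1 (QuotientGroup.eq.1 (f.injective h))
  have hcomm : ∀ {x x' : kon} {z z' : K}, f (QuotientGroup.mk x) = QuotientGroup.mk z →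
      f (QuotientGroup.mk x') = QuotientGroup.mk z' → x * x' = x' * x →
      z.1 * z'.1 * z.1⁻¹ * z'.1⁻¹ ∈ zed := by
    intro x x' z z' hx hx' hc
    have h1 : (z * z' * z⁻¹ * z'⁻¹ : K) ∈ Subgroup.center K := by
      refine (QuotientGroup.eq_one_iff _).1 ?_
      simp only [QuotientGroup.mk_mul, QuotientGroup.mk_inv, ← hx, ← hx', ← map_mul, ← map_inv]
      rw [← QuotientGroup.mk_inv, ← QuotientGroup.mk_inv, ← QuotientGroup.mk_mul,
        ← QuotientGroup.mk_mul, ← QuotientGroup.mk_mul,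
        show x * x' * x⁻¹ * x'⁻¹ = 1 by rw [hc]; group, QuotientGroup.mk_one, map_one]
    exact (mem_center_iff_zed hzK hcK _).1 h1
  -- the diagonal subgroup
  have htor : phm f tor = tor := by
    refine eq_tor (fun z hz => ?_) ?_ ?_
    · rw [← hfsyl]
      obtain ⟨hzK', x, hx, he⟩ := mem_phm.1 hz
      exact mem_phm.2 ⟨hzK', x, tor_le_syl hx, he⟩
    · rw [card_phm f hcK hck zed_le_tor (tor_le_evn.trans evn_le_kon), card_tor]
    · intro a ha b hb
      obtain ⟨haK, x, hx, hxe⟩ := mem_phm.1 ha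
      obtain ⟨hbK, x', hx', hx'e⟩ := mem_phm.1 hb
      obtain ⟨e, he⟩ := mem_tor.1 hx
      obtain ⟨e', he'⟩ := mem_tor.1 hx'
      have hxx : x * x' = x' * x := Subtype.ext (mat_inj (by
        rw [Subgroup.coe_mul, Subgroup.coe_mul, mat_mul, mat_mul, he, he', mon_mul, mon_mul]
        congr 1; funext j; exact add_comm _ _))
      have hres := hcomm (z := ⟨a, haK⟩) (z' := ⟨b, hbK⟩) hxe hx'e hxx
      exact hres
  have htK : tor ≤ K := tor_le_syl.trans hs
  -- the monomial subgroup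
  have hEn : phm f evn ≤ nor := by
    intro z hz
    obtain ⟨hzK', x, hx, he⟩ := mem_phm.1 hz
    refine mem_nor_of_conj fun t ht => ?_
    obtain ⟨htK', b, hb, hbe⟩ := mem_phm.1 (htor.symm ▸ ht : t ∈ phm f tor)
    rw [← htor]
    refine mem_phm.2 ⟨K.mul_mem (K.mul_mem hzK' htK') (K.inv_mem hzK'), x * b * x⁻¹,
      conj_tor (evn_le_nor hx) hb, ?_⟩
    rw [QuotientGroup.mk_mul, QuotientGroup.mk_mul, QuotientGroup.mk_inv, map_mul, map_mul,
      map_inv, he, hbe]
    rfl
  have hEc : Nat.card (phm f evn) = 360 * 243 := by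
    rw [card_phm f hcK hck zed_le_evn evn_le_kon, card_evn]
  have htE : tor ≤ phm f evn := fun t ht => by
    obtain ⟨h1, x, hx, he⟩ := mem_phm.1 (htor.symm ▸ ht : t ∈ phm f tor)
    exact mem_phm.2 ⟨h1, x, tor_le_evn hx, he⟩
  have hEev : phm f evn = evn := by
    let B : Subgroup (Equiv.Perm (Fin 6)) :=
      { carrier := {p | ∃ x ∈ phm f evn, ∃ e, mat x = mon p e}
        one_mem' := ⟨1, one_mem _, 0, by rw [mat_one, mon_one]⟩
        mul_mem' := fun ⟨x, hx, e, he⟩ ⟨z, hz, u, hu⟩ =>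
          ⟨x * z, mul_mem hx hz, _, by rw [mat_mul, he, hu, mon_mul]⟩
        inv_mem' := fun {p} ⟨x, hx, e, he⟩ => by
          refine ⟨x⁻¹, inv_mem hx, fun j => -e (p⁻¹ j), ?_⟩
          refine left_inv_eq_right_inv (a := mat x) (mat_inv x) ?_
          rw [he, mon_mul, mul_inv_cancel, ← mon_one]
          congr 1
          funext j
          simp }
    have heq : phm f evn = sub B := by
      refine le_antisymm (fun x hx => ?_) ?_
      · obtain ⟨p, e, he⟩ := mem_nor.1 (hEn hx)
        exact ⟨p, ⟨x, hx, e, he⟩, e, he⟩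
      · rintro x ⟨p, ⟨z, hz, e', he'⟩, e, he⟩
        have ht : x * z⁻¹ ∈ tor := by
          obtain ⟨q, u, hu⟩ := mem_nor.1 (nor.inv_mem (hEn hz))
          have h1 := congrArg mat (mul_inv_cancel z)
          rw [mat_mul, he', hu, mon_mul, mat_one, ← mon_one] at h1
          exact mem_tor.2 ⟨_, by rw [mat_mul, he, hu, mon_mul, (mon_inj h1).1]⟩
        have := (phm f evn).mul_mem (htE ht) hz
        rwa [inv_mul_cancel_right] at this
    have hB : B = alternatingGroup (Fin 6) := by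
      refine Equiv.Perm.eq_alternatingGroup_of_index_eq_two ?_
      have h1 := Subgroup.card_mul_index B
      have h2 : Nat.card B * 243 = 360 * 243 := by rw [← card_sub, ← heq, hEc]
      rw [Nat.card_perm, Nat.card_fin, show Nat.card B = 360 by omega,
        show Nat.factorial 6 = 720 from rfl] at h1
      omega
    rw [heq, hB]; rfl
  have hMK : evn ≤ K := hEev ▸ phm_le f evn
  have hKN : ∀ z ∈ K, z ∈ nor → z ∈ evn := by
    intro z hzK' hzn
    obtain ⟨x, hx⟩ := hpre ⟨z, hzK'⟩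
    have hxn : x.1 ∈ nor := by
      refine mem_nor_of_conj fun b hb => ?_
      obtain ⟨t, ht⟩ := himg ⟨b, evn_le_kon (tor_le_evn hb)⟩
      have htt : t.1 ∈ tor := htor ▸ mem_phm.2 ⟨t.2, _, hb, ht⟩
      obtain ⟨_, b', hb', hbe'⟩ := mem_phm.1
        (htor.symm ▸ conj_tor hzn htt : z * t.1 * z⁻¹ ∈ phm f tor)
      have h4 : f (QuotientGroup.mk b') =
          f (QuotientGroup.mk (x * ⟨b, evn_le_kon (tor_le_evn hb)⟩ * x⁻¹)) := by
        rw [hbe', QuotientGroup.mk_mul, QuotientGroup.mk_mul, QuotientGroup.mk_inv, map_mul, map_mul,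
          map_inv, hx, ht]
        rfl
      have := tor.mul_mem hb' (zed_le_tor (hsame h4))
      simpa using this
    rw [← hEev]
    exact mem_phm.2 ⟨hzK', x, kon_inter_nor x.2 hxn, hx⟩
  -- the distinguished element
  have htd : tdist ∈ tor := mem_tor.2 ⟨tE, rfl⟩
  obtain ⟨u, hu⟩ := himg ⟨tdist, evn_le_kon (tor_le_evn htd)⟩
  have hut : u.1 ∈ tor := htor ▸ mem_phm.2 ⟨u.2, _, htd, hu⟩
  obtain ⟨fu, hfu⟩ := mem_tor.1 hut
  have hfix : ∀ p ∈ nine, ∃ d, ∀ i, fu (p i) - fu i = d := by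
    intro p hp
    have hps : mkN p 0 (by simp) ∈ syl := ⟨p, hp, 0, rfl⟩
    obtain ⟨hpK, x, hx, hxe⟩ := mem_phm.1 (hfsyl.symm ▸ hps : mkN p 0 (by simp) ∈ phm f syl)
    have hres := hcomm hxe hu (Subtype.ext (syl_comm_tdist hx))
    exact const_of_comm (x := mkN p 0 (by simp)) (mat_mkN p 0 (by simp)) hfu hres
  obtain ⟨a, d, had⟩ := fix_both fu (sum_eq_zero_of_mat hfu) (hfix pA pA_mem) (hfix pC pC_mem)
  have ha0 : a ≠ 0 := by
    intro ha
    refine tdist_not_zed ?_
    have hz : u.1 ∈ zed := mem_zed_iff.2 ⟨d, by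
      rw [hfu]; congr 1; funext i; rw [had i, ha, zero_mul, zero_add]⟩
    have h1 : f (QuotientGroup.mk ⟨tdist, evn_le_kon (tor_le_evn htd)⟩) = f 1 := by
      rw [hu, map_one]
      exact (QuotientGroup.eq_one_iff u).2 ((mem_center_iff_zed hzK hcK u).2 hz)
    exact (mem_center_iff_zed hzk hck _).1 ((QuotientGroup.eq_one_iff _).1 (f.injective h1))
  obtain ⟨g, hg⟩ := himg ⟨gG, gen_mem_kon 3⟩
  have hgn : g.1 ∉ nor := by
    intro hgn
    obtain ⟨_, m, hm, hme⟩ := mem_phm.1 (hEev.symm ▸ hKN g.1 g.2 hgn : g.1 ∈ phm f evn)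
    refine gG_not_nor (evn_le_nor ?_)
    have := evn.mul_mem hm (zed_le_evn (hsame (hme.trans hg.symm)))
    simpa using this
  have hgu := hcomm hg hu (Subtype.ext gG_comm)
  have hgc := comm_of_comm_mod ha0 (hfu.trans (congrArg (mon 1) (funext had))) hgu
  obtain ⟨i, j, n, hn, hgq⟩ := exists_block_rep hgc
  have hcand : ∃ e, ¬ (i = 0 ∧ j = 0 ∧ e = false) ∧ candE e i j ∈ K := by
    rcases evn_or_shift hn with hne | hne
    · refine ⟨false, fun ⟨hi, hj, _⟩ => hgn ?_, ?_⟩
      · rw [hgq, hi, hj, gQ_zero, one_mul]; exact hn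
      · have := K.mul_mem g.2 (K.inv_mem (hMK hne))
        rwa [hgq, mul_inv_cancel_right] at this
    · refine ⟨true, fun h => Bool.noConfusion h.2.2, ?_⟩
      have := K.mul_mem g.2 (K.inv_mem (hMK hne))
      rw [hgq, _root_.mul_inv_rev, mul_assoc, mul_inv_cancel_left,
        inv_eq_of_mul_eq_one_right gS_sq] at this
      exact this
  obtain ⟨e, he1, he2⟩ := hcand
  rcases cand_outcome hMK he1 he2 with ⟨k, hk⟩ | hS
  · refine ⟨k, (Subgroup.eq_of_le_of_card_ge ?_ ?_).symm⟩
    · rw [konK_eq]; exact sup_le hMK (Subgroup.zpowers_le.2 hk)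
    · rw [hKcard, card_konK]
  · exact absurd (hKN gS hS gS_mem_nor) gS_not_evn

include hF in
/-- Every subgroup of this shape is conjugate to one of the three. -/
theorem exists_conj (K : Subgroup G6) (hcK : Nat.card (Subgroup.center K) = 3)
    (hiso : Nonempty (↥K ⧸ Subgroup.center K ≃* PSU 4 F 3)) :
    ∃ g : G6, ∃ k, K.map (MulAut.conj g).toMonoidHom = konK k := by
  classical
  haveI : Fact (Nat.Prime 3) := ⟨Nat.prime_three⟩
  have hKcard : Nat.card K = 112 * (360 * 243) := by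
    have := Subgroup.card_eq_card_quotient_mul_card_subgroup (Subgroup.center K)
    rw [Nat.card_congr hiso.some.toEquiv, H81.U43.card_PSU43 hF, hcK] at this
    omega
  obtain ⟨Q, hQ⟩ := Sylow.exists_subgroup_card_pow_prime (p := 3) (n := 7) (G := K)
    (by rw [hKcard]; norm_num)
  have hfac : (Nat.card G6).factorization 3 = 7 := by
    rw [card_G6, Nat.factorization_mul (by norm_num) (by norm_num),
      Nat.Prime.factorization_pow Nat.prime_three]
    simp [Nat.factorization_eq_zero_of_not_dvd (show ¬ 3 ∣ 12615680 by norm_num)]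
  have h1 : Nat.card (Q.map K.subtype) = 3 ^ (Nat.card G6).factorization 3 := by
    rw [Subgroup.card_map_of_injective K.subtype_injective, hQ, hfac]
  have h2 : Nat.card syl = 3 ^ (Nat.card G6).factorization 3 := by rw [card_syl, hfac]
  obtain ⟨g, hg⟩ := MulAction.exists_smul_eq G6
    (Sylow.ofCard _ h1 : Sylow 3 G6) (Sylow.ofCard _ h2 : Sylow 3 G6)
  have hg' : (Q.map K.subtype).map (MulAut.conj g).toMonoidHom = syl := by
    exact congrArg (fun P : Sylow 3 G6 => (P : Subgroup G6)) hg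
  have hle : syl ≤ K.map (MulAut.conj g).toMonoidHom :=
    hg' ▸ Subgroup.map_mono (Subgroup.map_subtype_le Q)
  obtain ⟨h3, ⟨e3⟩⟩ := quot_congr
    (K.equivMapOfInjective (MulAut.conj g).toMonoidHom (MulAut.conj g).injective)
  obtain ⟨k, hk⟩ := eq_konK_of_syl hF hle
    (by rw [Subgroup.card_map_of_injective (MulAut.conj g).injective, hKcard])
    (h3.symm.trans hcK) ⟨e3.symm.trans hiso.some⟩
  exact ⟨g, k, hk⟩

/-! ### The three are not conjugate -/

theorem map_conj_mul (a b : G6) (S : Subgroup G6) :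
    (S.map (MulAut.conj b).toMonoidHom).map (MulAut.conj a).toMonoidHom =
      S.map (MulAut.conj (a * b)).toMonoidHom := by
  rw [Subgroup.map_map]
  congr 1
  ext x
  simp [mul_assoc]

theorem conj_mem_eq {m : G6} {S : Subgroup G6} (hm : m ∈ S) :
    S.map (MulAut.conj m).toMonoidHom = S := by
  ext x
  constructor
  · rintro ⟨w, hw, rfl⟩
    exact S.mul_mem (S.mul_mem hm hw) (S.inv_mem hm)
  · intro hx
    exact ⟨m⁻¹ * x * m, S.mul_mem (S.mul_mem (S.inv_mem hm) hx) hm, by simp [mul_assoc]⟩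

theorem gS_conj_kon : kon.map (MulAut.conj gS).toMonoidHom = kon := by
  refine Subgroup.eq_of_le_of_card_ge ?_ (by rw [Subgroup.card_map_of_injective (MulAut.conj gS).injective])
  conv_lhs => rw [kon_eq]
  rw [Subgroup.map_sup, MonoidHom.map_zpowers]
  refine sup_le ?_ (Subgroup.zpowers_le.2 gS_conj_gG)
  rintro _ ⟨m, hm, rfl⟩
  refine evn_le_kon ?_
  obtain ⟨p, hp, e, he⟩ := hm
  obtain ⟨q, u, hu⟩ := mem_nor.1 (nor.inv_mem gS_mem_nor)
  have hS : mat gS = mon pT 0 := rfl
  have hq : pT * q = 1 := by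
    have h1 := congrArg mat (mul_inv_cancel gS)
    rw [mat_mul, hS, hu, mon_mul, mat_one, ← mon_one] at h1
    exact (mon_inj h1).1
  refine ⟨pT * p * q, ?_, _, by
    show mat (gS * m * gS⁻¹) = _
    rw [mat_mul, mat_mul, hS, he, hu, mon_mul, mon_mul]⟩
  rw [Equiv.Perm.mem_alternatingGroup, map_mul, map_mul, sign_pT, hp, mul_one, ← sign_pT, ← map_mul,
    hq, map_one]

theorem not_conj_zero_one (g : G6) : kon.map (MulAut.conj g).toMonoidHom ≠ konK 1 := by
  intro h
  haveI : Fact (Nat.Prime 3) := ⟨Nat.prime_three⟩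
  have hs1 : syl ≤ konK 1 := by
    rw [konK_eq]; exact le_sup_of_le_left syl_le_evn
  have hs2 : syl.map (MulAut.conj g).toMonoidHom ≤ konK 1 :=
    h ▸ Subgroup.map_mono (syl_le_evn.trans evn_le_kon)
  have hfac : (Nat.card (konK 1)).factorization 3 = 7 := by
    rw [card_konK, show 112 * (360 * 243) = 3 ^ 7 * 4480 by norm_num,
      Nat.factorization_mul (by norm_num) (by norm_num), Nat.Prime.factorization_pow Nat.prime_three]
    simp [Nat.factorization_eq_zero_of_not_dvd (show ¬ 3 ∣ 4480 by norm_num)]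
  have c1 : Nat.card (syl.subgroupOf (konK 1)) = 3 ^ (Nat.card (konK 1)).factorization 3 := by
    rw [Nat.card_congr (Subgroup.subgroupOfEquivOfLe hs1).toEquiv, card_syl, hfac]
  have c2 : Nat.card ((syl.map (MulAut.conj g).toMonoidHom).subgroupOf (konK 1)) =
      3 ^ (Nat.card (konK 1)).factorization 3 := by
    rw [Nat.card_congr (Subgroup.subgroupOfEquivOfLe hs2).toEquiv,
      Subgroup.card_map_of_injective (MulAut.conj g).injective, card_syl, hfac]
  obtain ⟨k, hk⟩ := MulAction.exists_smul_eq (konK 1)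
    (Sylow.ofCard _ c2 : Sylow 3 (konK 1)) (Sylow.ofCard _ c1 : Sylow 3 (konK 1))
  have hk' : ((syl.map (MulAut.conj g).toMonoidHom).subgroupOf (konK 1)).map
      (MulAut.conj k).toMonoidHom = syl.subgroupOf (konK 1) := by
    exact congrArg (fun P : Sylow 3 (konK 1) => (P : Subgroup (konK 1))) hk
  have hn : syl.map (MulAut.conj (k.1 * g)).toMonoidHom = syl := by
    refine Subgroup.eq_of_le_of_card_ge ?_
      (by rw [Subgroup.card_map_of_injective (MulAut.conj (k.1 * g)).injective])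
    rintro _ ⟨s, hs, rfl⟩
    have hs' : (MulAut.conj g).toMonoidHom s ∈ syl.map (MulAut.conj g).toMonoidHom := ⟨s, hs, rfl⟩
    have h4 : k * ⟨_, hs2 hs'⟩ * k⁻¹ ∈ syl.subgroupOf (konK 1) :=
      hk' ▸ Subgroup.mem_map.2 ⟨⟨_, hs2 hs'⟩, Subgroup.mem_subgroupOf.2 hs', rfl⟩
    have h5 := Subgroup.mem_subgroupOf.1 h4
    simpa [mul_assoc] using h5
  have hK : kon.map (MulAut.conj (k.1 * g)).toMonoidHom = konK 1 := by
    rw [← map_conj_mul, h, conj_mem_eq k.2]
  have heq : kon.map (MulAut.conj (k.1 * g)).toMonoidHom = kon := by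
    rcases evn_or_shift (mem_nor_of_conj_syl hn) with hm | hm
    · exact conj_mem_eq (evn_le_kon hm)
    · rw [show k.1 * g = gS * (gS * (k.1 * g)) by rw [← mul_assoc gS gS, gS_sq, one_mul],
        ← map_conj_mul, conj_mem_eq (evn_le_kon hm), gS_conj_kon]
  refine gk_one_not_mem ?_
  rw [← heq, hK, konK_eq]
  exact Subgroup.mem_sup_right (Subgroup.mem_zpowers _)

theorem dEk_add : ∀ j k : Fin 3, ∀ x, dEk j x + dEk k x = dEk (j + k) x := by decide +kernel

theorem map_konK (j k : Fin 3) : (konK k).map (dAut (dEk j)).toMonoidHom = konK (j + k) := by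
  rw [konK, konK, Subgroup.map_map]
  congr 1
  refine MonoidHom.ext fun x => ?_
  show dconj (dEk j) (dconj (dEk k) x) = dconj (dEk (j + k)) x
  rw [dconj_dconj, show dEk j + dEk k = dEk (j + k) from funext (dEk_add j k)]

theorem shift_conj {j k : Fin 3} {g : G6} (h : (konK j).map (MulAut.conj g).toMonoidHom = konK k)
    (l : Fin 3) : (konK (l + j)).map (MulAut.conj (dconj (dEk l) g)).toMonoidHom = konK (l + k) := by
  rw [← map_konK, ← map_konK, ← h, Subgroup.map_map, Subgroup.map_map]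
  congr 1
  refine MonoidHom.ext fun x => ?_
  show dconj (dEk l) g * dconj (dEk l) x * (dconj (dEk l) g)⁻¹ = dconj (dEk l) (g * x * g⁻¹)
  have hi : dconj (dEk l) g⁻¹ = (dconj (dEk l) g)⁻¹ := map_inv (dAut (dEk l)) g
  rw [dconj_mul, dconj_mul, hi]

theorem not_conj {j k : Fin 3} (hjk : j ≠ k) (g : G6) :
    (konK j).map (MulAut.conj g).toMonoidHom ≠ konK k := by
  have hsymm : ∀ {a b : Fin 3} {g : G6}, (konK a).map (MulAut.conj g).toMonoidHom = konK b →
      (konK b).map (MulAut.conj g⁻¹).toMonoidHom = konK a := by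
    intro a b g h
    rw [← h, map_conj_mul, inv_mul_cancel]
    exact conj_mem_eq (one_mem _)
  have h01 : ∀ g : G6, (konK 0).map (MulAut.conj g).toMonoidHom ≠ konK 1 := by
    rw [konK_zero]; exact not_conj_zero_one
  intro h
  have h' := shift_conj h (-j)
  rw [neg_add_cancel] at h'
  have hm : -j + k ≠ 0 := fun e => hjk (neg_add_eq_zero.1 e)
  obtain he | he : -j + k = 1 ∨ -j + k = 2 := by
    generalize -j + k = m at hm
    revert m; decide
  · rw [he] at h'; exact h01 _ h'
  · rw [he] at h'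
    have h'' := shift_conj (hsymm h') 1
    rw [show (1 : Fin 3) + 2 = 0 from rfl, show (1 : Fin 3) + 0 = 1 from rfl] at h''
    exact h01 _ h''

/-! ### The statement over the model field -/

include hF in
theorem three_classes : (∀ k, Nat.card (Subgroup.center ↥(konK k)) = 3 ∧
      Nonempty (↥(konK k) ⧸ Subgroup.center ↥(konK k) ≃* PSU 4 F 3)) ∧
    (∀ j k, j ≠ k → ∀ g : G6, (konK j).map (MulAut.conj g).toMonoidHom ≠ konK k) ∧
    ∀ K : Subgroup G6, Nat.card (Subgroup.center K) = 3 →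
      Nonempty (↥K ⧸ Subgroup.center K ≃* PSU 4 F 3) →
      ∃ g : G6, ∃ k, K.map (MulAut.conj g).toMonoidHom = konK k :=
  ⟨konK_facts hF, fun _ _ h g => not_conj h g, exists_conj hF⟩

end H57.U43
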