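import Cfsg.Agent.H57.GTwoFour.Arith
import Cfsg.Agent.H50.Count
import Cfsg.Agent.H50.Transvection
import Cfsg.Agent.H50.DetCentralizer

/-! Monomial subgroups of `SU₆(2)` over the four element field. -/

set_option autoImplicit false
set_option maxRecDepth 20000

namespace H57.U43

open H35.G24 Cfsg

/-- `SU₆(2)` over the model field. -/
abbrev G6 : Type := ↥(Cfsg.SU 6 K4 2)

/-- The matrix of an element. -/
def mat (g : G6) : Matrix (Fin 6) (Fin 6) K4 := H50.suMat g

theorem mat_mul (g h : G6) : mat (g * h) = mat g * mat h := H50.suMat_mul g h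

theorem mat_one : mat (1 : G6) = 1 := H50.suMat_one

theorem mat_inj {g h : G6} (e : mat g = mat h) : g = h := H50.SU_ext e

theorem mat_inv (g : G6) : mat g⁻¹ * mat g = 1 := by rw [← mat_mul, inv_mul_cancel, mat_one]

theorem hK4 : Fintype.card K4 = 2 ^ 2 := K4.card_eq

instance : Finite G6 := Finite.of_injective mat fun _ _ h => mat_inj h

/-- An element from a matrix with a left inverse equal to its adjoint. -/
noncomputable def mkG (M : Matrix (Fin 6) (Fin 6) K4) (h : H51.adj hK4 M * M = 1) (hd : M.det = 1) : G6 :=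
  H50.mkSU M (fun a b => by
    rw [H50.h_mulVec_left hK4, Matrix.mulVec_mulVec, h, Matrix.one_mulVec]) hd

theorem mat_mkG (M : Matrix (Fin 6) (Fin 6) K4) (h : H51.adj hK4 M * M = 1) (hd : M.det = 1) :
    mat (mkG M h hd) = M := rfl

theorem two_zero : (2 : K4) = 0 := by decide +kernel

theorem neg_eq (a : K4) : -a = a := rfl

/-- Powers of a fixed primitive cube root of unity. -/
def wp (k : ZMod 3) : K4 := K4.ofN (([1, 2, 3] : List ℕ).getD k.val 0)

theorem wp_add : ∀ a b, wp (a + b) = wp a * wp b := by decide +kernel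
theorem wp_zero : wp 0 = 1 := by decide +kernel
theorem wp_ne : ∀ a, wp a ≠ 0 := by decide +kernel
theorem wp_inj : ∀ a b, wp a = wp b → a = b := by decide +kernel
theorem wp_surj : ∀ x : K4, x ≠ 0 → ∃ a, wp a = x := by decide +kernel
theorem wp_sq : ∀ a, wp a ^ 2 = wp (-a) := by decide +kernel

theorem wp_sum {ι : Type} (s : Finset ι) (e : ι → ZMod 3) :
    wp (∑ i ∈ s, e i) = ∏ i ∈ s, wp (e i) := by
  classical
  induction s using Finset.induction_on with
  | empty => simp [wp_zero]
  | insert a s ha ih => rw [Finset.sum_insert ha, Finset.prod_insert ha, wp_add, ih]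

/-- Exponent vectors. -/
abbrev Ev : Type := Fin 6 → ZMod 3

/-- A monomial matrix. -/
def mon (p : Equiv.Perm (Fin 6)) (e : Ev) : Matrix (Fin 6) (Fin 6) K4 :=
  Matrix.of fun i j => if p j = i then wp (e j) else 0

theorem mon_apply (p : Equiv.Perm (Fin 6)) (e : Ev) (i j : Fin 6) :
    mon p e i j = if p j = i then wp (e j) else 0 := rfl

theorem mon_mul (p q : Equiv.Perm (Fin 6)) (e f : Ev) :
    mon p e * mon q f = mon (p * q) (fun j => e (q j) + f j) := by
  ext i j
  rw [Matrix.mul_apply, Finset.sum_eq_single (q j)]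
  · simp only [mon_apply, if_pos, Equiv.Perm.mul_apply, wp_add]
    by_cases h : p (q j) = i <;> simp [h]
  · intro b _ hb
    simp [mon_apply, Ne.symm hb]
  · simp

theorem mon_one : mon 1 0 = 1 := by
  ext i j
  simp [mon_apply, Matrix.one_apply, wp_zero, eq_comm]

theorem mon_inj {p q : Equiv.Perm (Fin 6)} {e f : Ev} (h : mon p e = mon q f) : p = q ∧ e = f := by
  have key : ∀ j, q j = p j ∧ wp (e j) = wp (f j) := by
    intro j
    have := congrFun (congrFun h (p j)) j
    simp only [mon_apply, if_pos] at this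
    by_cases hq : q j = p j
    · exact ⟨hq, by rw [if_pos hq] at this; exact this⟩
    · rw [if_neg hq] at this; exact absurd this (wp_ne _)
  exact ⟨Equiv.ext fun j => (key j).1.symm, funext fun j => wp_inj _ _ (key j).2⟩

theorem adj_mon (p : Equiv.Perm (Fin 6)) (e : Ev) :
    H51.adj hK4 (mon p e) = mon p⁻¹ (fun j => - e (p⁻¹ j)) := by
  ext i j
  simp only [H51.adj_apply, mon_apply]
  by_cases h : p i = j
  · subst h; simp [wp_sq]
  · have h' : p⁻¹ j ≠ i := fun h' => h (by rw [← h']; simp)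
    simp only [zero_pow (two_ne_zero), if_neg h, if_neg h']

theorem adj_mon_mul (p : Equiv.Perm (Fin 6)) (e : Ev) : H51.adj hK4 (mon p e) * mon p e = 1 := by
  rw [adj_mon, mon_mul, inv_mul_cancel]
  refine Eq.trans ?_ mon_one
  congr 1
  funext j
  simp

theorem det_mon (p : Equiv.Perm (Fin 6)) (e : Ev) : (mon p e).det = wp (∑ i, e i) := by
  rw [Matrix.det_apply, Finset.sum_eq_single p]
  · simp only [mon_apply, if_pos, wp_sum]
    rcases Int.units_eq_one_or (Equiv.Perm.sign p) with h | h
    · rw [h]; simp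
    · rw [h]; simp [neg_eq]
  · intro σ _ hσ
    obtain ⟨j, hj⟩ : ∃ j, p j ≠ σ j := by
      by_contra! h
      exact hσ (Equiv.ext fun j => (h j).symm)
    rw [Finset.prod_eq_zero (Finset.mem_univ j) (by simp [mon_apply, hj]), smul_zero]
  · simp

/-- A monomial element. -/
noncomputable def mkN (p : Equiv.Perm (Fin 6)) (e : Ev) (h : ∑ i, e i = 0) : G6 :=
  mkG (mon p e) (adj_mon_mul p e) (by rw [det_mon, h, wp_zero])

theorem mat_mkN (p : Equiv.Perm (Fin 6)) (e : Ev) (h : ∑ i, e i = 0) : mat (mkN p e h) = mon p e :=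
  rfl

theorem det_mat (g : G6) : (mat g).det = 1 := g.1.2

theorem sum_eq_zero_of_mat {g : G6} {p : Equiv.Perm (Fin 6)} {e : Ev} (h : mat g = mon p e) :
    ∑ i, e i = 0 := by
  refine wp_inj _ _ ?_
  rw [← det_mon p e, ← h, det_mat, wp_zero]

/-- The monomial subgroup over a permutation group. -/
def sub (H : Subgroup (Equiv.Perm (Fin 6))) : Subgroup G6 where
  carrier := {g | ∃ p ∈ H, ∃ e, mat g = mon p e}
  one_mem' := ⟨1, H.one_mem, 0, by rw [mat_one, mon_one]⟩
  mul_mem' := by
    rintro a b ⟨p, hp, e, he⟩ ⟨q, hq, f, hf⟩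
    exact ⟨p * q, H.mul_mem hp hq, _, by rw [mat_mul, he, hf, mon_mul]⟩
  inv_mem' := by
    rintro a ⟨p, hp, e, he⟩
    refine ⟨p⁻¹, H.inv_mem hp, fun j => - e (p⁻¹ j), ?_⟩
    rw [← adj_mon, ← he]
    have h1 : H51.adj hK4 (mat a) * mat a = 1 := by rw [he]; exact adj_mon_mul p e
    exact (left_inv_eq_right_inv h1 (by rw [← mat_mul, mul_inv_cancel, mat_one])).symm

theorem mem_sub {H : Subgroup (Equiv.Perm (Fin 6))} {g : G6} :
    g ∈ sub H ↔ ∃ p ∈ H, ∃ e, mat g = mon p e := Iff.rfl

theorem sub_mono {H K : Subgroup (Equiv.Perm (Fin 6))} (h : H ≤ K) : sub H ≤ sub K :=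
  fun _ ⟨p, hp, e, he⟩ => ⟨p, h hp, e, he⟩

theorem card_sub (H : Subgroup (Equiv.Perm (Fin 6))) : Nat.card (sub H) = Nat.card H * 243 := by
  classical
  have h243 : Nat.card {e : Ev // ∑ i, e i = 0} = 243 := by
    rw [Nat.card_eq_fintype_card]; decide +kernel
  rw [← h243, ← Nat.card_prod]
  refine (Nat.card_eq_of_bijective (fun x : H × {e : Ev // ∑ i, e i = 0} =>
    (⟨mkN x.1 x.2.1 x.2.2, x.1, x.1.2, x.2.1, rfl⟩ : sub H)) ⟨?_, ?_⟩).symm
  · intro x y h
    obtain ⟨h1, h2⟩ := mon_inj (congrArg (fun g : sub H => mat g.1) h)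
    exact Prod.ext (Subtype.ext h1) (Subtype.ext h2)
  · rintro ⟨g, p, hp, e, he⟩
    exact ⟨⟨⟨p, hp⟩, e, sum_eq_zero_of_mat he⟩, Subtype.ext (mat_inj he.symm)⟩

/-- The diagonal subgroup. -/
def tor : Subgroup G6 := sub ⊥
/-- The full monomial subgroup. -/
def nor : Subgroup G6 := sub ⊤
/-- The monomial subgroup over even permutations. -/
def evn : Subgroup G6 := sub (alternatingGroup (Fin 6))

theorem mem_tor {g : G6} : g ∈ tor ↔ ∃ e, mat g = mon 1 e := by simp [tor, mem_sub]

theorem mem_nor {g : G6} : g ∈ nor ↔ ∃ p e, mat g = mon p e := by simp [nor, mem_sub]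

theorem card_tor : Nat.card tor = 243 := by rw [tor, card_sub, Subgroup.card_bot, one_mul]

theorem card_nor : Nat.card nor = 720 * 243 := by
  rw [nor, card_sub, Subgroup.card_top, Nat.card_perm, Nat.card_fin]; rfl

theorem card_evn : Nat.card evn = 360 * 243 := by
  rw [evn, card_sub, nat_card_alternatingGroup, Nat.card_fin]; rfl

theorem tor_le_evn : tor ≤ evn := sub_mono bot_le
theorem evn_le_nor : evn ≤ nor := sub_mono le_top

theorem conj_tor {g : G6} (hg : g ∈ nor) {t : G6} (ht : t ∈ tor) : g * t * g⁻¹ ∈ tor := by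
  obtain ⟨p, -, e, he⟩ := hg
  obtain ⟨f, hf⟩ := mem_tor.1 ht
  obtain ⟨q, -, k, hk⟩ := (nor).inv_mem (⟨p, trivial, e, he⟩ : g ∈ nor)
  refine mem_tor.2 ⟨fun j => e (q j) + f (q j) + k j, ?_⟩
  have hpq : p * q = 1 := by
    have := congrArg mat (mul_inv_cancel g)
    rw [mat_mul, he, hk, mon_mul, mat_one, ← mon_one] at this
    exact (mon_inj this).1
  rw [mat_mul, mat_mul, he, hf, hk, mon_mul, mon_mul, mul_one, hpq]
  rfl

/-- An element normalising the diagonal subgroup is monomial. -/
theorem mem_nor_of_conj {g : G6} (h : ∀ t ∈ tor, g * t * g⁻¹ ∈ tor) : g ∈ nor := by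
  classical
  let tE : ∀ e : Ev, (∑ i, e i = 0) → G6 := fun e he => mkN 1 e he
  have hs : ∀ j k : Fin 6, j ≠ k → ∃ e : Ev, ∑ i, e i = 0 ∧ e j ≠ e k := by
    intro j k hjk
    refine ⟨fun i => if i = j then 1 else if i = k then 2 else 0, ?_, by simp [Ne.symm hjk]; decide⟩
    revert j k; decide +kernel
  have key : ∀ i j k, mat g i j ≠ 0 → mat g i k ≠ 0 → j = k := by
    intro i j k hj hk
    by_contra hjk
    obtain ⟨e, he, hne⟩ := hs j k hjk
    obtain ⟨f, hf⟩ := mem_tor.1 (h (tE e he) (mem_tor.2 ⟨e, rfl⟩))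
    have hm : mat g * mon 1 e = mon 1 f * mat g := by
      rw [show mon 1 e = mat (tE e he) from rfl, ← hf, ← mat_mul, ← mat_mul]; congr 1; group
    have hL : ∀ l, (mat g * mon 1 e) i l = mat g i l * wp (e l) := by
      intro l
      rw [Matrix.mul_apply, Finset.sum_eq_single l]
      · simp [mon_apply]
      · intro b _ hb; simp [mon_apply, Ne.symm hb]
      · simp
    have hR : ∀ l, (mon 1 f * mat g) i l = wp (f i) * mat g i l := by
      intro l
      rw [Matrix.mul_apply, Finset.sum_eq_single i]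
      · simp [mon_apply]
      · intro b _ hb; simp [mon_apply, hb]
      · simp
    have e1 := congrFun (congrFun hm i) j
    have e2 := congrFun (congrFun hm i) k
    rw [hL, hR, mul_comm] at e1 e2
    exact hne (wp_inj _ _ ((mul_right_cancel₀ hj e1).trans (mul_right_cancel₀ hk e2).symm))
  -- each row has exactly one nonzero entry
  have hex : ∀ i, ∃ j, mat g i j ≠ 0 := by
    intro i
    by_contra! h0
    have := congrFun (congrFun (show mat g * mat g⁻¹ = 1 by rw [← mat_mul, mul_inv_cancel, mat_one]) i) i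
    simp [Matrix.mul_apply, h0] at this
  choose σ hσ using hex
  have hσu : ∀ i j, mat g i j ≠ 0 → j = σ i := fun i j hj => key i j (σ i) hj (hσ i)
  have hσi : Function.Injective σ := by
    refine Finite.injective_iff_surjective.2 fun j => ?_
    by_contra! h0
    have := congrFun (congrFun (mat_inv g) j) j
    have hz : ∀ i, mat g i j = 0 := fun i => by
      by_contra hij; exact h0 i (hσu i j hij).symm
    simp [Matrix.mul_apply, hz] at this
  let s := Equiv.ofBijective σ (Finite.injective_iff_bijective.1 hσi)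
  choose e he using fun j => wp_surj (mat g (s.symm j) j) (by
    have := hσ (s.symm j)
    rwa [show σ (s.symm j) = j from s.apply_symm_apply j] at this)
  refine mem_nor.2 ⟨s.symm, e, ?_⟩
  ext i j
  rw [mon_apply]
  split
  · next h => rw [he, h]
  · next h =>
    by_contra hij
    exact h (by rw [hσu i j hij]; exact s.symm_apply_apply i)

end H57.U43
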