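import Cfsg.Agent.H57.UFour.Kone

/-! The Sylow 3-subgroup of `SU₆(2)` as a monomial group; scalars and an outer diagonal automorphism. -/

set_option autoImplicit false
set_option maxRecDepth 20000

namespace H57.U43

open H35.G24 Cfsg

/-- A second three-cycle. -/
def pC : Equiv.Perm (Fin 6) where
  toFun := ![0, 1, 2, 4, 5, 3]
  invFun := ![0, 1, 2, 5, 3, 4]
  left_inv := by decide
  right_inv := by decide

theorem nine_mul : ∀ i j k l : Fin 3, ∃ a b : Fin 3,
    (pA ^ i.val * pC ^ j.val) * (pA ^ k.val * pC ^ l.val) = pA ^ a.val * pC ^ b.val := by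
  decide +kernel

theorem nine_inv : ∀ i j : Fin 3, ∃ a b : Fin 3, (pA ^ i.val * pC ^ j.val)⁻¹ = pA ^ a.val * pC ^ b.val := by
  decide +kernel

/-- The group generated by the two three-cycles. -/
def nine : Subgroup (Equiv.Perm (Fin 6)) where
  carrier := {p | ∃ i j : Fin 3, p = pA ^ i.val * pC ^ j.val}
  one_mem' := ⟨0, 0, by simp⟩
  mul_mem' := by rintro a b ⟨i, j, rfl⟩ ⟨k, l, rfl⟩; exact nine_mul i j k l
  inv_mem' := by rintro a ⟨i, j, rfl⟩; exact nine_inv i j

theorem pA_mem : pA ∈ nine := ⟨1, 0, by simp⟩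
theorem pC_mem : pC ∈ nine := ⟨0, 1, by simp⟩

theorem card_nine : Nat.card nine = 9 := by
  have hinj : ∀ x y : Fin 3 × Fin 3,
      pA ^ x.1.val * pC ^ x.2.val = pA ^ y.1.val * pC ^ y.2.val → x = y := by decide +kernel
  rw [← Nat.card_eq_of_bijective (fun x : Fin 3 × Fin 3 =>
    (⟨pA ^ x.1.val * pC ^ x.2.val, x.1, x.2, rfl⟩ : nine))
    ⟨fun x y h => hinj x y (congrArg Subtype.val h),
      fun ⟨p, i, j, h⟩ => ⟨(i, j), Subtype.ext h.symm⟩⟩]
  simp

theorem nine_le_alt : nine ≤ alternatingGroup (Fin 6) := by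
  have h : ∀ i j : Fin 3, Equiv.Perm.sign (pA ^ i.val * pC ^ j.val) = 1 := by decide +kernel
  rintro p ⟨i, j, rfl⟩
  exact h i j

/-- A Sylow 3-subgroup. -/
def syl : Subgroup G6 := sub nine

theorem card_syl : Nat.card syl = 3 ^ 7 := by rw [syl, card_sub, card_nine]; rfl

theorem syl_le_evn : syl ≤ evn := sub_mono nine_le_alt
theorem tor_le_syl : tor ≤ syl := sub_mono bot_le

theorem sum_one : ∑ _i : Fin 6, (1 : ZMod 3) = 0 := by decide +kernel

/-- A scalar of order three. -/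
noncomputable def zc : G6 := mkN 1 (fun _ => 1) sum_one

theorem mat_zc : mat zc = wp 1 • 1 := by
  rw [zc, mat_mkN]
  ext i j
  simp [mon_apply, Matrix.one_apply, eq_comm]

theorem zc_comm (g : G6) : g * zc = zc * g := mat_inj (by rw [mat_mul, mat_mul, mat_zc]; simp)

/-- The scalars. -/
noncomputable def zed : Subgroup G6 := Subgroup.zpowers zc

theorem zed_le_center : zed ≤ Subgroup.center G6 :=
  Subgroup.zpowers_le.2 (Subgroup.mem_center_iff.2 zc_comm)

theorem zc_cube : zc ^ 3 = 1 := by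
  refine mat_inj ?_
  rw [pow_three, mat_mul, mat_mul, mat_zc, mat_one]
  simp only [Matrix.smul_mul, Matrix.mul_smul, Matrix.one_mul, smul_smul, ← wp_add]
  rw [show (1 : ZMod 3) + 1 + 1 = 0 by decide +kernel, wp_zero, one_smul]

theorem zc_ne : zc ≠ 1 := fun h => by
  have := congrArg mat h
  rw [zc, mat_mkN, mat_one, ← mon_one] at this
  exact one_ne_zero (congrFun (mon_inj this).2 0)

theorem card_zed : Nat.card zed = 3 := by
  haveI : Fact (Nat.Prime 3) := ⟨Nat.prime_three⟩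
  rw [zed, Nat.card_zpowers, orderOf_eq_prime zc_cube zc_ne]

theorem mem_zed {g : G6} (h : g ∈ zed) : ∃ c : ZMod 3, mat g = mon 1 (fun _ => c) := by
  obtain ⟨n, rfl⟩ := (Subgroup.mem_zpowers_iff).1 h
  induction n using Int.induction_on with
  | zero => exact ⟨0, by rw [zpow_zero, mat_one, ← mon_one]; rfl⟩
  | succ k ih =>
    obtain ⟨c, hc⟩ := ih ⟨k, rfl⟩
    exact ⟨c + 1, by rw [zpow_add_one, mat_mul, hc, zc, mat_mkN, mon_mul]; rfl⟩
  | pred k ih =>
    obtain ⟨c, hc⟩ := ih ⟨-k, rfl⟩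
    refine ⟨c - 1, ?_⟩
    have hinv : zc⁻¹ = mkN 1 (fun _ => -1) (by decide +kernel) := inv_eq_of_mul_eq_one_right
      (mat_inj (by rw [mat_mul, zc, mat_mkN, mat_mkN, mon_mul, mat_one, ← mon_one, one_mul]; exact congrArg (mon 1) (funext fun i => by simp)))
    rw [zpow_sub_one, mat_mul, hc, hinv, mat_mkN, mon_mul, sub_eq_add_neg]
    rfl

theorem mem_zed_iff {g : G6} : g ∈ zed ↔ ∃ c : ZMod 3, mat g = mon 1 (fun _ => c) := by
  refine ⟨mem_zed, fun ⟨c, hc⟩ => ?_⟩
  have : g = zc ^ c.val := by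
    refine mat_inj ?_
    have hp : ∀ n : ℕ, mat (zc ^ n) = mon 1 (fun _ => (n : ZMod 3)) := by
      intro n
      induction n with
      | zero => rw [pow_zero, mat_one, Nat.cast_zero, ← mon_one]; rfl
      | succ n ih => rw [pow_succ, mat_mul, ih, zc, mat_mkN, mon_mul, Nat.cast_succ]; rfl
    rw [hp, hc, ZMod.natCast_zmod_val]
  rw [this]
  exact Subgroup.pow_mem _ (Subgroup.mem_zpowers zc) _

theorem zed_le_tor : zed ≤ tor := fun _ h => by
  obtain ⟨c, hc⟩ := mem_zed h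
  exact mem_tor.2 ⟨_, hc⟩

theorem conj_mon {x : G6} {p : Equiv.Perm (Fin 6)} {e f : Ev} {t : G6} (hx : mat x = mon p e)
    (ht : mat t = mon 1 f) : mat (x * t * x⁻¹) = mon 1 (fun j => f (p⁻¹ j)) := by
  have hi : mat x⁻¹ = mon p⁻¹ (fun j => -e (p⁻¹ j)) := by
    refine left_inv_eq_right_inv (a := mat x) (mat_inv x) ?_
    rw [hx, mon_mul, mul_inv_cancel, ← mon_one]
    congr 1
    funext j
    simp
  rw [mat_mul, mat_mul, hx, ht, hi, mon_mul, mon_mul, mul_one, mul_inv_cancel]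
  congr 1
  funext j
  simp only [Equiv.Perm.coe_one, id_eq]
  abel

/-- Commuting modulo scalars with a monomial element. -/
theorem const_of_comm {x t : G6} {p : Equiv.Perm (Fin 6)} {e f : Ev} (hx : mat x = mon p e)
    (ht : mat t = mon 1 f) (h : x * t * x⁻¹ * t⁻¹ ∈ zed) :
    ∃ c, ∀ i, f (p i) - f i = c := by
  obtain ⟨d, hd⟩ := mem_zed h
  refine ⟨-d, fun i => ?_⟩
  have h1 := congrArg mat (show x * t * x⁻¹ = x * t * x⁻¹ * t⁻¹ * t by group)
  rw [conj_mon hx ht, mat_mul _ t, hd, ht, mon_mul, one_mul] at h1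
  have := congrFun (mon_inj h1).2 (p i)
  simp only [Equiv.Perm.inv_def, Equiv.symm_apply_apply, Equiv.Perm.coe_one, id_eq] at this
  rw [this]; ring

/-- The vectors fixed by a permutation modulo constants. -/
abbrev FixC (p : Equiv.Perm (Fin 6)) : Type :=
  {f : Ev // ∑ i, f i = 0 ∧ ∃ c, ∀ i, f (p i) - f i = c}

theorem fix_bound : ∀ i j : Fin 3, (i, j) ≠ (0, 0) →
    Fintype.card (FixC (pA ^ i.val * pC ^ j.val)) ≤ 27 := by decide +kernel

theorem fix_bound_two : Fintype.card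
    {f : Ev // ∑ i, f i = 0 ∧ (∃ c, ∀ i, f (pA i) - f i = c) ∧ ∃ c, ∀ i, f (pC i) - f i = c} ≤ 9 := by
  decide +kernel

theorem fix_both : ∀ f : Ev, ∑ i, f i = 0 → (∃ c, ∀ i, f (pA i) - f i = c) →
    (∃ c, ∀ i, f (pC i) - f i = c) →
    ∃ a c : ZMod 3, ∀ i, f i = a * (![0, 0, 0, 1, 1, 1] : Ev) i + c := by decide +kernel

/-- The only abelian-modulo-scalars subgroup of order `3⁵` of the Sylow subgroup is diagonal. -/
theorem eq_tor {A : Subgroup G6} (hA : A ≤ syl) (hcard : Nat.card A = 243)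
    (hab : ∀ x ∈ A, ∀ t ∈ A, x * t * x⁻¹ * t⁻¹ ∈ zed) : A = tor := by
  classical
  let B : Subgroup (Equiv.Perm (Fin 6)) :=
    { carrier := {p | ∃ x ∈ A, ∃ e, mat x = mon p e}
      one_mem' := ⟨1, one_mem _, 0, by rw [mat_one, mon_one]⟩
      mul_mem' := fun ⟨x, hx, e, he⟩ ⟨y, hy, f, hf⟩ =>
        ⟨x * y, mul_mem hx hy, _, by rw [mat_mul, he, hf, mon_mul]⟩
      inv_mem' := fun {p} ⟨x, hx, e, he⟩ => by
        refine ⟨x⁻¹, inv_mem hx, fun j => -e (p⁻¹ j), ?_⟩
        refine left_inv_eq_right_inv (a := mat x) (mat_inv x) ?_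
        rw [he, mon_mul, mul_inv_cancel, ← mon_one]
        congr 1
        funext j
        simp }
  have hB : B ≤ nine := by
    rintro p ⟨x, hx, e, he⟩
    obtain ⟨q, hq, f, hf⟩ := hA hx
    obtain ⟨rfl, -⟩ := mon_inj (he.symm.trans hf)
    exact hq
  choose r hr er her using fun p : B => p.2
  have hle : Nat.card A ≤ Nat.card B * Nat.card ↥(A ⊓ tor) := by
    rw [← Nat.card_prod]
    have hex : ∀ a : A, ∃ p : B, ∃ e, mat a.1 = mon p.1 e := fun a => by
      obtain ⟨q, hq, f, hf⟩ := hA a.2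
      exact ⟨⟨q, a.1, a.2, f, hf⟩, f, hf⟩
    choose P eP hP using hex
    refine Nat.card_le_card_of_injective (fun a : A => (P a, (⟨(r (P a))⁻¹ * a.1,
      A.mul_mem (A.inv_mem (hr _)) a.2, ?_⟩ : ↥(A ⊓ tor)))) ?_
    · have hi : mat (r (P a))⁻¹ = mon (P a).1⁻¹ (fun j => -(er (P a)) ((P a).1⁻¹ j)) := by
        refine left_inv_eq_right_inv (a := mat (r (P a))) (mat_inv _) ?_
        rw [her, mon_mul, mul_inv_cancel, ← mon_one]
        congr 1
        funext j
        simp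
      exact mem_tor.2 ⟨_, by rw [mat_mul, hi, hP a, mon_mul, inv_mul_cancel]⟩
    · intro a b h
      simp only [Prod.mk.injEq] at h
      obtain ⟨h1, h2⟩ := h
      have h3 : (r (P a))⁻¹ * a.1 = (r (P b))⁻¹ * b.1 := congrArg Subtype.val h2
      clear h2
      rw [h1] at h3
      exact Subtype.ext (mul_left_cancel h3)
  have hfix : ∀ p ∈ B, ∀ t : ↥(A ⊓ tor), ∃ f : Ev, mat t.1 = mon 1 f ∧ ∑ i, f i = 0 ∧
      ∃ c, ∀ i, f (p i) - f i = c := by
    rintro p ⟨x, hx, e, he⟩ ⟨t, htA, htT⟩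
    obtain ⟨f, hf⟩ := mem_tor.1 htT
    exact ⟨f, hf, sum_eq_zero_of_mat hf, const_of_comm he hf (hab x hx t htA)⟩
  have hB9 : Nat.card B ∣ 9 := card_nine ▸ Subgroup.card_dvd_of_le hB
  have hB1 : B = ⊥ := by
    by_contra hne
    obtain ⟨p, hp, hp1⟩ := (B.ne_bot_iff_exists_ne_one).1 hne |> fun ⟨q, hq⟩ =>
      (⟨q.1, q.2, fun h => hq (Subtype.ext h)⟩ : ∃ p, p ∈ B ∧ p ≠ 1)
    obtain ⟨i, j, rfl⟩ := hB hp
    have hij : (i, j) ≠ (0, 0) := fun h => by
      obtain ⟨rfl, rfl⟩ := Prod.mk.injEq .. ▸ h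
      exact hp1 (by simp)
    choose f hf hs hfc using hfix _ hp
    have h27 : Nat.card ↥(A ⊓ tor) ≤ 27 := by
      refine le_trans (Nat.card_le_card_of_injective (fun t => (⟨f t, hs t, hfc t⟩ :
        FixC (pA ^ i.val * pC ^ j.val))) fun a b h => Subtype.ext (mat_inj ?_)) ?_
      · rw [hf a, hf b]; exact congrArg (mon 1) (congrArg Subtype.val h)
      · rw [Nat.card_eq_fintype_card]; exact fix_bound i j hij
    have hdvd : Nat.card B ≤ 9 := Nat.le_of_dvd (by norm_num) hB9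
    by_cases h9 : Nat.card B = 9
    · have hBn : B = nine := Subgroup.eq_of_le_of_card_ge hB (by rw [card_nine, h9])
      choose fA hfA hsA hcA using hfix pA (hBn ▸ pA_mem)
      choose fC hfC hsC hcC using hfix pC (hBn ▸ pC_mem)
      have h9' : Nat.card ↥(A ⊓ tor) ≤ 9 := by
        refine le_trans (Nat.card_le_card_of_injective (fun t => (⟨fA t, hsA t, hcA t, ?_⟩ :
          {f : Ev // ∑ i, f i = 0 ∧ (∃ c, ∀ i, f (pA i) - f i = c) ∧
            ∃ c, ∀ i, f (pC i) - f i = c})) fun a b h => Subtype.ext (mat_inj ?_)) ?_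
        · rw [(mon_inj ((hfA t).symm.trans (hfC t))).2]; exact hcC t
        · rw [hfA a, hfA b]; exact congrArg (mon 1) (congrArg Subtype.val h)
        · rw [Nat.card_eq_fintype_card]; exact fix_bound_two
      rw [h9] at hle
      omega
    · have h3 : Nat.card B ≤ 3 := by
        obtain h | h | h : Nat.card B = 1 ∨ Nat.card B = 3 ∨ Nat.card B = 9 := by
          have hm : Nat.card B ∈ Nat.divisors 9 := Nat.mem_divisors.2 ⟨hB9, by norm_num⟩
          rw [show Nat.divisors 9 = {1, 3, 9} by decide] at hm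
          simpa using hm
        all_goals omega
      have := Nat.mul_le_mul h3 h27
      omega
  refine Subgroup.eq_of_le_of_card_ge (fun x hx => ?_) (by rw [hcard, card_tor])
  obtain ⟨p, -, e, he⟩ := hA hx
  have hp : p ∈ B := ⟨x, hx, e, he⟩
  rw [hB1, Subgroup.mem_bot] at hp
  subst hp
  exact mem_tor.2 ⟨e, he⟩

/-- An element normalising the Sylow subgroup is monomial. -/
theorem mem_nor_of_conj_syl {g : G6} (h : syl.map (MulAut.conj g).toMonoidHom = syl) : g ∈ nor := by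
  refine mem_nor_of_conj fun t ht => ?_
  have hA : tor.map (MulAut.conj g).toMonoidHom = tor := by
    refine eq_tor (h ▸ Subgroup.map_mono tor_le_syl) ?_ ?_
    · rw [Subgroup.card_map_of_injective (MulAut.conj g).injective, card_tor]
    · rintro _ ⟨a, ha, rfl⟩ _ ⟨b, hb, rfl⟩
      obtain ⟨e, he⟩ := mem_tor.1 ha
      obtain ⟨f, hf⟩ := mem_tor.1 hb
      have hab : a * b = b * a := mat_inj (by
        rw [mat_mul, mat_mul, he, hf, mon_mul, mon_mul]; congr 1; funext j; exact add_comm _ _)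
      rw [← map_inv, ← map_inv, ← map_mul, ← map_mul, ← map_mul,
        show a * b * a⁻¹ * b⁻¹ = 1 by rw [hab]; group, map_one]
      exact one_mem _
  rw [← hA]
  exact ⟨t, ht, rfl⟩

/-! ### The diagonal automorphism -/

/-- Exponents of the diagonal matrix. -/
def dE : Ev := ![1, 0, 0, 0, 0, 0]

theorem isIso_mon (p : Equiv.Perm (Fin 6)) (e : Ev) : H50.IsIso 2 (mon p e) := fun a b => by
  rw [H50.h_mulVec_left hK4, Matrix.mulVec_mulVec, adj_mon_mul, Matrix.one_mulVec]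

theorem mon_cancel (e : Ev) : mon 1 e * mon 1 (-e) = 1 := by
  rw [mon_mul, one_mul, ← mon_one]; congr 1; funext j; simp

theorem mon_cancel' (e : Ev) : mon 1 (-e) * mon 1 e = 1 := by
  have := mon_cancel (-e); rwa [neg_neg] at this

/-- Conjugation by a diagonal matrix. -/
noncomputable def dconj (e : Ev) (x : G6) : G6 :=
  H50.mkSU (mon 1 e * mat x * mon 1 (-e))
    (((isIso_mon 1 e).mul (H50.SU_isIso x)).mul (isIso_mon 1 (-e))) (by
      rw [Matrix.det_mul_right_comm, mon_cancel, Matrix.one_mul, det_mat])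

theorem mat_dconj (e : Ev) (x : G6) : mat (dconj e x) = mon 1 e * mat x * mon 1 (-e) := rfl

theorem dconj_mul (e : Ev) (x z : G6) : dconj e (x * z) = dconj e x * dconj e z := by
  refine mat_inj ?_
  rw [mat_mul, mat_dconj, mat_dconj, mat_dconj, mat_mul]
  simp only [Matrix.mul_assoc]
  rw [← Matrix.mul_assoc (mon 1 (-e)) (mon 1 e), mon_cancel', Matrix.one_mul]

theorem dconj_dconj (e f : Ev) (x : G6) : dconj e (dconj f x) = dconj (e + f) x := by
  refine mat_inj ?_
  rw [mat_dconj, mat_dconj, mat_dconj]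
  simp only [Matrix.mul_assoc, mon_mul]
  rw [← Matrix.mul_assoc (mon 1 e), mon_mul]
  simp only [one_mul]
  congr 3
  funext j
  simp [add_comm]

theorem dconj_zero (x : G6) : dconj 0 x = x := by
  refine mat_inj ?_
  rw [mat_dconj, neg_zero, mon_one, Matrix.one_mul, Matrix.mul_one]

/-- A diagonal automorphism. -/
noncomputable def dAut (e : Ev) : G6 ≃* G6 where
  toFun := dconj e
  invFun := dconj (-e)
  left_inv x := by rw [dconj_dconj, neg_add_cancel, dconj_zero]
  right_inv x := by rw [dconj_dconj, add_neg_cancel, dconj_zero]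
  map_mul' := dconj_mul e

theorem dconj_sub {H : Subgroup (Equiv.Perm (Fin 6))} (e : Ev) {x : G6} (hx : x ∈ sub H) :
    dconj e x ∈ sub H := by
  obtain ⟨p, hp, f, hf⟩ := hx
  exact ⟨p, hp, _, by rw [mat_dconj, hf, mon_mul, one_mul, mon_mul, mul_one]⟩

theorem map_dAut_sub (H : Subgroup (Equiv.Perm (Fin 6))) (e : Ev) :
    (sub H).map (dAut e).toMonoidHom = sub H := by
  refine le_antisymm ?_ fun x hx => ⟨dconj (-e) x, dconj_sub _ hx, ?_⟩
  · rintro _ ⟨x, hx, rfl⟩; exact dconj_sub e hx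
  · show dconj e (dconj (-e) x) = x
    rw [dconj_dconj, add_neg_cancel, dconj_zero]

end H57.U43
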