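import Cfsg.Agent.H57.UFour.Main

/-! Transfer of the three classes to an arbitrary field with four elements. -/

set_option autoImplicit false

namespace H57.U43

open H35.G24 Cfsg Matrix

variable {F F' : Type} [Field F] [Field F'] (φ : F ≃+* F')

theorem herm_map (n q : ℕ) (u v : Fin n → F) :
    hermForm n F' q (fun i => φ (u i)) (fun i => φ (v i)) = φ (hermForm n F q u v) := by
  simp [hermForm, map_sum, map_mul, map_pow]

theorem mulVec_map {n : ℕ} (A : Matrix (Fin n) (Fin n) F) (u : Fin n → F) :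
    A.map φ *ᵥ (fun i => φ (u i)) = fun i => φ ((A *ᵥ u) i) := by
  ext i
  simp [Matrix.mulVec, dotProduct, map_sum, map_mul]

theorem isIso_map {n q : ℕ} {A : Matrix (Fin n) (Fin n) F} (h : H50.IsIso q A) :
    H50.IsIso q (A.map φ) := by
  intro a b
  obtain ⟨a', rfl⟩ : ∃ a', (fun i => φ (a' i)) = a :=
    ⟨fun i => φ.symm (a i), funext fun i => φ.apply_symm_apply _⟩
  obtain ⟨b', rfl⟩ : ∃ b', (fun i => φ (b' i)) = b :=
    ⟨fun i => φ.symm (b i), funext fun i => φ.apply_symm_apply _⟩
  rw [mulVec_map, mulVec_map, herm_map, herm_map, h]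

/-- An element over the other field. -/
def suMap {n q : ℕ} (g : ↥(Cfsg.SU n F q)) : ↥(Cfsg.SU n F' q) :=
  H50.mkSU ((H50.suMat g).map φ) (isIso_map φ (H50.SU_isIso g))
    (by
      have h : (H50.suMat g).det = 1 := g.1.2
      rw [← RingEquiv.coe_toRingHom, ← RingHom.mapMatrix_apply, ← RingHom.map_det, h, map_one])

/-- The groups over isomorphic fields are isomorphic. -/
def suEquiv (n q : ℕ) : ↥(Cfsg.SU n F q) ≃* ↥(Cfsg.SU n F' q) where
  toFun := suMap φ
  invFun := suMap φ.symm
  left_inv g := H50.SU_ext (by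
    ext i j
    exact φ.symm_apply_apply _)
  right_inv g := H50.SU_ext (by
    ext i j
    exact φ.apply_symm_apply _)
  map_mul' a b := H50.SU_ext (by
    show (H50.suMat (a * b)).map φ = (H50.suMat a).map φ * (H50.suMat b).map φ
    rw [H50.suMat_mul]
    exact Matrix.map_mul)

theorem map_conj_equiv {A B : Type*} [Group A] [Group B] (e : A ≃* B) (g : A) (S : Subgroup A) :
    (S.map (MulAut.conj g).toMonoidHom).map e.toMonoidHom =
      (S.map e.toMonoidHom).map (MulAut.conj (e g)).toMonoidHom := by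
  rw [Subgroup.map_map, Subgroup.map_map]
  congr 1
  ext x
  simp

end H57.U43
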